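import Cfsg.Agent.H843.IMC.Co1D
import Cfsg.Agent.H713.Spor.RankThree
import Cfsg.Agent.S0157
import Cfsg.Agent.S0366

/-!
# S4929: a character of `Co₁` of even degree prime to 23 (helper472)
-/

set_option autoImplicit false
set_option maxRecDepth 100000
set_option linter.unusedSectionVars false

namespace Cfsg.Agent.H472.EP.Co1T

open Cfsg Cfsg.Agent.Characters.Core MulAction
open scoped ComplexConjugate

/-! ### general facts on characters -/

section abs

variable {G : Type*} [Group G] [Fintype G]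

/-- subtraction of a constituent -/
theorem exists_sub {W : G → ℂ} (hW : IsCharacter G W) {χ : G → ℂ} (hχ : IsIrrCharacter G χ) (h : classInner W χ ≠ 0) :
    ∃ V : G → ℂ, IsCharacter G V ∧ W = χ + V := by
  classical
  have : Finite (IrrCharacter G) := finite_irr
  have := Fintype.ofFinite (IrrCharacter G)
  obtain ⟨m, hm⟩ := exists_nat_comb hW
  have h1 : m ⟨χ, hχ⟩ ≠ 0 := by
    intro h0
    apply h
    rw [hm, classInner_sum_left, Finset.sum_eq_zero]
    intro η _
    rw [← Nat.cast_smul_eq_nsmul ℂ, classInner_smul_left]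
    by_cases h2 : η = ⟨χ, hχ⟩
    · rw [h2, h0]; simp
    · rw [classInner_irr_ne η.2 hχ (fun h3 => h2 (Subtype.ext h3)), mul_zero]
  refine ⟨∑ η : IrrCharacter G, (if η = ⟨χ, hχ⟩ then m η - 1 else m η) • (η : G → ℂ),
    isCharacter_sum _ fun η _ => isCharacter_nsmul _ (isIrr_isCharacter η.2), ?_⟩
  rw [hm, ← Finset.add_sum_erase Finset.univ _ (Finset.mem_univ (⟨χ, hχ⟩ : IrrCharacter G)),
    ← Finset.add_sum_erase Finset.univ (fun η : IrrCharacter G => (if η = ⟨χ, hχ⟩ then m η - 1 else m η) • (η : G → ℂ))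
      (Finset.mem_univ (⟨χ, hχ⟩ : IrrCharacter G)), ← add_assoc]
  congr 1
  · rw [if_pos rfl]
    nth_rewrite 1 [← Nat.sub_add_cancel (Nat.one_le_iff_ne_zero.2 h1)]
    rw [add_comm, add_nsmul, one_nsmul]
  · refine Finset.sum_congr rfl fun η hη => ?_
    rw [if_neg (Finset.ne_of_mem_erase hη)]

theorem inner_nonneg {α β : G → ℂ} (hα : IsCharacter G α) (hβ : IsCharacter G β) :
    ∃ n : ℕ, classInner α β = n := classInner_isNat hα hβ

theorem two_parts {α β τ ω : G → ℂ} (hα : IsCharacter G α) (hβ : IsCharacter G β) (hτ : IsIrrCharacter G τ)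
    (hω : IsIrrCharacter G ω) (hne : τ ≠ ω) (h : α + β = τ + ω) : α = 0 ∨ α = τ ∨ α = ω ∨ α = τ + ω := by
  classical
  have key : ∀ η : G → ℂ, IsIrrCharacter G η → classInner α η + classInner β η = classInner τ η + classInner ω η := by
    intro η _
    rw [← classInner_add_left, ← classInner_add_left, h]
  have hone : ∀ η : G → ℂ, IsIrrCharacter G η → classInner τ η + classInner ω η = 1 →
      classInner α η = 0 ∨ classInner α η = 1 := by
    intro η hη h1
    have h2 := key η hη
    obtain ⟨a, ha⟩ := classInner_isNat hα (isIrr_isCharacter hη)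
    obtain ⟨b, hb⟩ := classInner_isNat hβ (isIrr_isCharacter hη)
    rw [ha, hb, h1] at h2
    have h3 : a + b = 1 := by exact_mod_cast h2
    rw [ha]
    have h4 : a = 0 ∨ a = 1 := by omega
    rcases h4 with rfl | rfl
    · left; norm_num
    · right; norm_num
  have hzero : ∀ η : G → ℂ, IsIrrCharacter G η → η ≠ τ → η ≠ ω → classInner α η = 0 := by
    intro η hη h1 h2
    have h3 := key η hη
    rw [classInner_irr_ne hτ hη (Ne.symm h1), classInner_irr_ne hω hη (Ne.symm h2)] at h3
    obtain ⟨a, ha⟩ := classInner_isNat hα (isIrr_isCharacter hη)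
    obtain ⟨b, hb⟩ := classInner_isNat hβ (isIrr_isCharacter hη)
    rw [ha, hb, add_zero] at h3
    have h4 : a + b = 0 := by exact_mod_cast h3
    rw [ha, show a = 0 by omega]
    norm_num
  have h1 := hone τ hτ (by rw [classInner_irr_self hτ, classInner_irr_ne hω hτ hne.symm, add_zero])
  have h2 := hone ω hω (by rw [classInner_irr_self hω, classInner_irr_ne hτ hω hne, zero_add])
  have hcl := isCharacter_isClassFunction hα
  have fin : ∀ γ : G → ℂ, IsCharacter G γ → classInner γ τ = classInner α τ → classInner γ ω = classInner α ω →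
      (∀ η : G → ℂ, IsIrrCharacter G η → η ≠ τ → η ≠ ω → classInner γ η = 0) → α = γ := by
    intro γ hγ g1 g2 g3
    refine classFunction_ext hcl (isCharacter_isClassFunction hγ) fun η hη => ?_
    by_cases e1 : η = τ
    · rw [e1, g1]
    by_cases e2 : η = ω
    · rw [e2, g2]
    rw [hzero η hη e1 e2, g3 η hη e1 e2]
  rcases h1 with h1 | h1 <;> rcases h2 with h2 | h2
  · left
    exact fin 0 isCharacter_zero (by rw [h1, classInner_zero_left]) (by rw [h2, classInner_zero_left])
      fun η _ _ _ => classInner_zero_left η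
  · right; right; left
    exact fin ω (isIrr_isCharacter hω) (by rw [h1, classInner_irr_ne hω hτ hne.symm])
      (by rw [h2, classInner_irr_self hω]) fun η hη _ e2 => classInner_irr_ne hω hη (Ne.symm e2)
  · right; left
    exact fin τ (isIrr_isCharacter hτ) (by rw [h1, classInner_irr_self hτ]) (by rw [h2, classInner_irr_ne hτ hω hne])
      fun η hη e1 _ => classInner_irr_ne hτ hη (Ne.symm e1)
  · right; right; right
    refine fin (τ + ω) (isCharacter_add (isIrr_isCharacter hτ) (isIrr_isCharacter hω)) ?_ ?_ ?_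
    · rw [h1, classInner_add_left, classInner_irr_self hτ, classInner_irr_ne hω hτ hne.symm, add_zero]
    · rw [h2, classInner_add_left, classInner_irr_self hω, classInner_irr_ne hτ hω hne, zero_add]
    · intro η hη e1 e2
      rw [classInner_add_left, classInner_irr_ne hτ hη (Ne.symm e1), classInner_irr_ne hω hη (Ne.symm e2), add_zero]

theorem one_part {α β ω : G → ℂ} (hα : IsCharacter G α) (hβ : IsCharacter G β)
    (hω : IsIrrCharacter G ω) (h : α + β = ω) : α = 0 ∨ α = ω := by
  classical
  have key : ∀ η : G → ℂ, IsIrrCharacter G η → classInner α η + classInner β η = classInner ω η := by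
    intro η _
    rw [← classInner_add_left, h]
  have hzero : ∀ η : G → ℂ, IsIrrCharacter G η → η ≠ ω → classInner α η = 0 := by
    intro η hη h2
    have h3 := key η hη
    rw [classInner_irr_ne hω hη (Ne.symm h2)] at h3
    obtain ⟨a, ha⟩ := classInner_isNat hα (isIrr_isCharacter hη)
    obtain ⟨b, hb⟩ := classInner_isNat hβ (isIrr_isCharacter hη)
    rw [ha, hb] at h3
    have h4 : a + b = 0 := by exact_mod_cast h3
    rw [ha, show a = 0 by omega]
    norm_num
  have h1 : classInner α ω = 0 ∨ classInner α ω = 1 := by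
    have h2 := key ω hω
    obtain ⟨a, ha⟩ := classInner_isNat hα (isIrr_isCharacter hω)
    obtain ⟨b, hb⟩ := classInner_isNat hβ (isIrr_isCharacter hω)
    rw [ha, hb, classInner_irr_self hω] at h2
    have h3 : a + b = 1 := by exact_mod_cast h2
    rw [ha]
    have h4 : a = 0 ∨ a = 1 := by omega
    rcases h4 with rfl | rfl
    · left; norm_num
    · right; norm_num
  rcases h1 with h1 | h1
  · left
    refine classFunction_ext (isCharacter_isClassFunction hα) (isCharacter_isClassFunction isCharacter_zero)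
      fun η hη => ?_
    by_cases e2 : η = ω
    · rw [e2, h1, classInner_zero_left]
    · rw [hzero η hη e2, classInner_zero_left]
  · right
    refine classFunction_ext (isCharacter_isClassFunction hα) (isIrr_isClassFunction hω) fun η hη => ?_
    by_cases e2 : η = ω
    · rw [e2, h1, classInner_irr_self hω]
    · rw [hzero η hη e2, classInner_irr_ne hω hη (Ne.symm e2)]

/-- the fixed points of `f(E)` as a representation of `M` -/
noncomputable def av {E : Type*} [Group E] [Fintype E] {M : Type*} [Group M] (f : E →* G) (p : M →* G) (θ : G → ℂ) :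
    M → ℂ := fun m => (Nat.card E : ℂ)⁻¹ * ∑ e : E, θ (p m * f e)

variable {E : Type*} [Group E] [Fintype E] {M : Type*} [Group M] (f : E →* G) (p : M →* G)

theorem av_add (θ θ' : G → ℂ) : av f p (θ + θ') = av f p θ + av f p θ' := by
  funext m
  simp only [av, Pi.add_apply, Finset.sum_add_distrib, mul_add]

theorem av_one (θ : G → ℂ) : av f p θ 1 = classInner (θ ∘ f) 1 := by
  rw [av, classInner_def]
  simp [map_one]

theorem isCharacter_av (hn : ∀ m, ∃ σ : E ≃ E, ∀ e, f (σ e) * p m = p m * f e) {θ : G → ℂ} (hθ : IsCharacter G θ) :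
    IsCharacter M (av f p θ) := by
  classical
  obtain ⟨n, ρ, rfl⟩ := hθ
  set P : Module.End ℂ (Fin n → ℂ) := (Nat.card E : ℂ)⁻¹ • ∑ e : E, ρ (f e) with hP
  have hE : (Nat.card E : ℂ) ≠ 0 := card_ne_zero_complex
  have hl : ∀ x : E, ρ (f x) * P = P := by
    intro x
    rw [hP, mul_smul_comm, Finset.mul_sum]
    congr 1
    rw [← Equiv.sum_comp (Equiv.mulLeft x) fun e => ρ (f e)]
    refine Finset.sum_congr rfl fun e _ => ?_
    rw [Equiv.coe_mulLeft, map_mul f, map_mul ρ]
  have hPP : P * P = P := by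
    nth_rewrite 1 [hP]
    rw [smul_mul_assoc, Finset.sum_mul, Finset.sum_congr rfl fun x _ => hl x, Finset.sum_const, Finset.card_univ,
      ← Nat.cast_smul_eq_nsmul ℂ, smul_smul, ← Nat.card_eq_fintype_card, inv_mul_cancel₀ hE, one_smul]
  have hc : ∀ m, P * (ρ.comp p) m = (ρ.comp p) m * P := by
    intro m
    obtain ⟨σ, hσ⟩ := hn m
    show P * ρ (p m) = ρ (p m) * P
    rw [hP, smul_mul_assoc, mul_smul_comm, Finset.sum_mul, Finset.mul_sum]
    congr 1
    rw [← Equiv.sum_comp σ fun e => ρ (f e) * ρ (p m)]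
    refine Finset.sum_congr rfl fun e _ => ?_
    rw [← map_mul, ← map_mul, hσ]
  have h := Cfsg.Agent.H843.IMC.isCharacter_trace_proj (ρ.comp p) P hPP hc
  convert h using 1
  funext m
  show (Nat.card E : ℂ)⁻¹ * ∑ e : E, ρ.character (p m * f e) = LinearMap.trace ℂ _ (ρ (p m) * P)
  rw [hP, mul_smul_comm, map_smul, smul_eq_mul]
  congr 1
  rw [Finset.mul_sum, map_sum]
  refine Finset.sum_congr rfl fun e _ => ?_
  rw [← map_mul]
  rfl

end abs

/-! ### `M₂₄` on points and on pairs of points -/

section m24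

open Cfsg.Agent.H713.Spor.RankThree (pc inner_pc_one inner_pc_self pc_one)

/-- pairs of points -/
abbrev D : Type := Set.powersetCard GolayPt 2

theorem exists_map {n : ℕ} (hn : n ≤ 5) {x y : Fin n → GolayPt} (hx : Function.Injective x) (hy : Function.Injective y) :
    ∃ g : M24, ∀ i, g • x i = y i := by
  have h5 : IsMultiplyPretransitive M24 GolayPt 5 := Cfsg.Agent.S0366.result
  have h : IsMultiplyPretransitive M24 GolayPt n := isMultiplyPretransitive_of_le (n := 5) hn (by simp [GolayPt])
  obtain ⟨g, hg⟩ := h.exists_smul_eq ⟨x, hx⟩ ⟨y, hy⟩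
  exact ⟨g, fun i => congrFun (congrArg (fun e : Fin n ↪ GolayPt => (e : Fin n → GolayPt)) hg) i⟩

instance : IsPretransitive M24 GolayPt := by
  have h5 : IsMultiplyPretransitive M24 GolayPt 5 := Cfsg.Agent.S0366.result
  rw [← is_one_pretransitive_iff]
  exact isMultiplyPretransitive_of_le (n := 5) (by norm_num) (by simp [GolayPt])

instance : IsPretransitive M24 D := by
  have h5 : IsMultiplyPretransitive M24 GolayPt 5 := Cfsg.Agent.S0366.result
  exact Set.powersetCard.isPretransitive_of_isMultiplyPretransitive _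
    (isMultiplyPretransitive_of_le (n := 5) (by norm_num) (by simp [GolayPt]))

theorem card_D : Nat.card D = 276 := by
  rw [Set.powersetCard.card, Nat.card_eq_fintype_card, Cfsg.Agent.SporadicA.LeechMin.card_pts]
  rfl

theorem exists_pair (d : D) : ∃ a b : GolayPt, a ≠ b ∧ (d : Finset GolayPt) = {a, b} := Finset.card_eq_two.1 d.2

open scoped Pointwise in
theorem coe_smul_D (g : M24) (d : D) : ((g • d : D) : Finset GolayPt) = g • (d : Finset GolayPt) := rfl

open scoped Pointwise in
theorem smul_pair (g : M24) (a b : GolayPt) : g • ({a, b} : Finset GolayPt) = {g • a, g • b} := by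
  rw [Finset.smul_finset_insert, Finset.smul_finset_singleton]

theorem smul_eq_of (g : M24) {d d' : D} {a b a' b' : GolayPt} (h : (d : Finset GolayPt) = {a, b})
    (h' : (d' : Finset GolayPt) = {a', b'}) (ha : g • a = a') (hb : g • b = b') : g • d = d' := by
  apply Subtype.ext
  rw [coe_smul_D, h, smul_pair, ha, hb, h']

/-- the size of the intersection -/
def ic (x : D × D) : ℕ := ((x.1 : Finset GolayPt) ∩ (x.2 : Finset GolayPt)).card

open scoped Pointwise in
theorem ic_smul (g : M24) (x : D × D) : ic (g • x) = ic x := by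
  unfold ic
  show ((g • (x.1 : Finset GolayPt)) ∩ (g • (x.2 : Finset GolayPt))).card = _
  rw [← Finset.smul_finset_inter, Finset.card_smul_finset]

theorem ic_le (x : D × D) : ic x ≤ 2 := by
  have h := Finset.card_le_card (Finset.inter_subset_left (s₁ := (x.1 : Finset GolayPt)) (s₂ := (x.2 : Finset GolayPt)))
  rw [x.1.2] at h
  exact h

theorem eq_of_ic {x : D × D} (h : ic x = 2) : x.1 = x.2 := by
  have h1 : ((x.1 : Finset GolayPt) ∩ (x.2 : Finset GolayPt)) = x.1 :=
    Finset.eq_of_subset_of_card_le Finset.inter_subset_left (by rw [x.1.2]; exact h.ge)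
  have h2 : ((x.1 : Finset GolayPt) ∩ (x.2 : Finset GolayPt)) = x.2 :=
    Finset.eq_of_subset_of_card_le Finset.inter_subset_right (by rw [x.2.2]; exact h.ge)
  exact Subtype.ext (h1.symm.trans h2)

theorem one_of_ic {x : D × D} (h : ic x = 1) : ∃ y : Fin 3 → GolayPt, Function.Injective y ∧
    (x.1 : Finset GolayPt) = {y 0, y 1} ∧ (x.2 : Finset GolayPt) = {y 0, y 2} := by
  obtain ⟨a, ha⟩ := Finset.card_eq_one.1 h
  have h1 : a ∈ (x.1 : Finset GolayPt) ∩ (x.2 : Finset GolayPt) := by rw [ha]; exact Finset.mem_singleton_self a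
  rw [Finset.mem_inter] at h1
  have key : ∀ d : D, a ∈ (d : Finset GolayPt) → ∃ b, b ≠ a ∧ (d : Finset GolayPt) = {a, b} := by
    intro d hd
    obtain ⟨u, v, huv, h2⟩ := exists_pair d
    rw [h2, Finset.mem_insert, Finset.mem_singleton] at hd
    rcases hd with rfl | rfl
    · exact ⟨v, huv.symm, h2⟩
    · exact ⟨u, huv, by rw [h2, Finset.pair_comm]⟩
  obtain ⟨b, hb, e1⟩ := key x.1 h1.1
  obtain ⟨c, hc, e2⟩ := key x.2 h1.2
  have hbc : b ≠ c := by
    rintro rfl
    have h3 : b ∈ (x.1 : Finset GolayPt) ∩ (x.2 : Finset GolayPt) := by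
      rw [Finset.mem_inter, e1, e2]
      simp
    rw [ha, Finset.mem_singleton] at h3
    exact hb h3
  refine ⟨![a, b, c], ?_, e1, e2⟩
  intro i j hij
  fin_cases i <;> fin_cases j <;> simp at hij ⊢
  · exact hb hij.symm
  · exact hc hij.symm
  · exact hb hij
  · exact hbc hij
  · exact hc hij
  · exact hbc hij.symm

theorem zero_of_ic {x : D × D} (h : ic x = 0) : ∃ y : Fin 4 → GolayPt, Function.Injective y ∧
    (x.1 : Finset GolayPt) = {y 0, y 1} ∧ (x.2 : Finset GolayPt) = {y 2, y 3} := by
  obtain ⟨a, b, hab, e1⟩ := exists_pair x.1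
  obtain ⟨c, d, hcd, e2⟩ := exists_pair x.2
  have h1 : ((x.1 : Finset GolayPt) ∩ (x.2 : Finset GolayPt)) = ∅ := Finset.card_eq_zero.1 h
  have key : ∀ u v : GolayPt, u ∈ (x.1 : Finset GolayPt) → v ∈ (x.2 : Finset GolayPt) → u ≠ v := by
    rintro u _ hu hv rfl
    have h2 : u ∈ (x.1 : Finset GolayPt) ∩ (x.2 : Finset GolayPt) := Finset.mem_inter.2 ⟨hu, hv⟩
    rw [h1] at h2
    exact absurd h2 (Finset.notMem_empty u)
  have ka : a ∈ (x.1 : Finset GolayPt) := by rw [e1]; simp
  have kb : b ∈ (x.1 : Finset GolayPt) := by rw [e1]; simp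
  have kc : c ∈ (x.2 : Finset GolayPt) := by rw [e2]; simp
  have kd : d ∈ (x.2 : Finset GolayPt) := by rw [e2]; simp
  refine ⟨![a, b, c, d], ?_, e1, e2⟩
  intro i j hij
  fin_cases i <;> fin_cases j <;> simp at hij ⊢
  · exact hab hij
  · exact key a c ka kc hij
  · exact key a d ka kd hij
  · exact hab hij.symm
  · exact key b c kb kc hij
  · exact key b d kb kd hij
  · exact key a c ka kc hij.symm
  · exact key b c kb kc hij.symm
  · exact hcd hij
  · exact key a d ka kd hij.symm
  · exact key b d kb kd hij.symm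
  · exact hcd hij.symm

theorem exists_of_ic {x y : D × D} (h : ic x = ic y) : ∃ g : M24, g • x = y := by
  have hx := ic_le x
  have h3 : ic x = 0 ∨ ic x = 1 ∨ ic x = 2 := by omega
  rcases h3 with h3 | h3 | h3
  · obtain ⟨u, hu, e1, e2⟩ := zero_of_ic h3
    obtain ⟨v, hv, e3, e4⟩ := zero_of_ic (x := y) (by rw [← h, h3])
    obtain ⟨g, hg⟩ := exists_map (by norm_num) hu hv
    exact ⟨g, Prod.ext (smul_eq_of g e1 e3 (hg 0) (hg 1)) (smul_eq_of g e2 e4 (hg 2) (hg 3))⟩
  · obtain ⟨u, hu, e1, e2⟩ := one_of_ic h3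
    obtain ⟨v, hv, e3, e4⟩ := one_of_ic (x := y) (by rw [← h, h3])
    obtain ⟨g, hg⟩ := exists_map (by norm_num) hu hv
    exact ⟨g, Prod.ext (smul_eq_of g e1 e3 (hg 0) (hg 1)) (smul_eq_of g e2 e4 (hg 0) (hg 2))⟩
  · have h4 := eq_of_ic h3
    have h5 := eq_of_ic (x := y) (by rw [← h, h3])
    obtain ⟨g, hg⟩ := exists_smul_eq M24 x.1 y.1
    exact ⟨g, Prod.ext hg (by show g • x.2 = y.2; rw [← h4, hg, h5])⟩

theorem orbits_DD : Nat.card (Quotient (orbitRel M24 (D × D))) ≤ 3 := by
  let F : Quotient (orbitRel M24 (D × D)) → Fin 3 := Quotient.lift (fun x => ⟨ic x, by have := ic_le x; omega⟩) (by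
    intro x y hxy
    obtain ⟨g, hg⟩ := (orbitRel_apply.1 hxy : x ∈ orbit M24 y)
    apply Fin.ext
    show ic x = ic y
    rw [← hg]
    exact ic_smul g y)
  have hF : Function.Injective F := by
    intro q r
    induction q using Quotient.inductionOn with | _ x =>
    induction r using Quotient.inductionOn with | _ y =>
    intro h
    obtain ⟨g, hg⟩ := exists_of_ic (x := y) (y := x) (congrArg Fin.val h).symm
    exact Quotient.sound (orbitRel_apply.2 ⟨g, hg⟩)
  have := Nat.card_le_card_of_injective F hF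
  rwa [Nat.card_fin] at this

open scoped Pointwise in
theorem orbits_DP : 2 ≤ Nat.card (Quotient (orbitRel M24 (D × GolayPt))) := by
  classical
  let F : Quotient (orbitRel M24 (D × GolayPt)) → Prop := Quotient.lift (fun x => x.2 ∈ (x.1 : Finset GolayPt)) (by
    intro x y hxy
    obtain ⟨g, hg⟩ := (orbitRel_apply.1 hxy : x ∈ orbit M24 y)
    show (x.2 ∈ (x.1 : Finset GolayPt)) = (y.2 ∈ (y.1 : Finset GolayPt))
    rw [← hg]
    apply propext
    show g • y.2 ∈ g • (y.1 : Finset GolayPt) ↔ _
    exact Finset.smul_mem_smul_finset_iff g)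
  have hF : Function.Surjective F := by
    obtain ⟨d⟩ : Nonempty D := by
      have : 0 < Nat.card D := by rw [card_D]; norm_num
      exact (Nat.card_pos_iff.1 this).1
    obtain ⟨a, b, hab, e⟩ := exists_pair d
    intro P
    by_cases hP : P
    · refine ⟨Quotient.mk _ (d, a), ?_⟩
      show (a ∈ (d : Finset GolayPt)) = P
      rw [e]
      simp [hP]
    · obtain ⟨c, hc⟩ : ∃ c : GolayPt, c ∉ (d : Finset GolayPt) := by
        by_contra hcon
        push Not at hcon
        have h1 : (Finset.univ : Finset GolayPt) ⊆ (d : Finset GolayPt) := fun c _ => hcon c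
        have h2 := Finset.card_le_card h1
        rw [d.2, Finset.card_univ] at h2
        have h3 : Fintype.card GolayPt = 24 := Cfsg.Agent.SporadicA.LeechMin.card_pts
        omega
      refine ⟨Quotient.mk _ (d, c), ?_⟩
      show (c ∈ (d : Finset GolayPt)) = P
      simp [hP, hc]
  have := Nat.card_le_card_of_surjective F hF
  have h2 : Nat.card Prop = 2 := by
    rw [Nat.card_eq_fintype_card]
    rfl
  rwa [h2] at this

theorem inner_pc_pc {G : Type*} [Group G] [Fintype G] (X Y : Type*) [MulAction G X] [MulAction G Y] [Finite X] [Finite Y] :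
    classInner (pc G X) (pc G Y) = (Nat.card (Quotient (orbitRel G (X × Y))) : ℂ) := by
  rw [classInner_def, ← Cfsg.Agent.S0157.avg_fixedBy (G := G) (X × Y)]
  congr 1
  refine Finset.sum_congr rfl fun g _ => ?_
  rw [Cfsg.Agent.S0157.card_fixedBy_prod, pc, pc, Complex.conj_natCast]
  push_cast
  rfl

/-- the permutation character on the points -/
noncomputable def π1 : M24 → ℂ := pc M24 GolayPt

/-- the permutation character on the pairs -/
noncomputable def π2 : M24 → ℂ := pc M24 D

theorem card_P : Nat.card GolayPt = 24 := by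
  rw [Nat.card_eq_fintype_card]
  exact Cfsg.Agent.SporadicA.LeechMin.card_pts

theorem irr_tau : IsIrrCharacter M24 (π1 - 1) := by
  have h5 : IsMultiplyPretransitive M24 GolayPt 5 := Cfsg.Agent.S0366.result
  exact (Cfsg.Agent.S0157.result (G := M24) GolayPt (by rw [card_P]; norm_num)).2
    (isMultiplyPretransitive_of_le (n := 5) (by norm_num) (by simp [GolayPt]))

theorem irr_omega : IsIrrCharacter M24 (π2 - π1) := by
  classical
  have := Fintype.ofFinite M24
  have hne : Nonempty GolayPt := (Nat.card_pos_iff.1 (by rw [card_P]; norm_num)).1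
  have h11 : classInner π1 π1 = 2 := by
    have h1 := classInner_irr_self irr_tau
    have h2 : classInner π1 1 = 1 := inner_pc_one GolayPt
    have h3 : classInner (1 : M24 → ℂ) π1 = 1 := by rw [← classInner_conj_symm, h2, map_one]
    rw [classInner_sub_left, classInner_sub_right, classInner_sub_right, h2, h3, classInner_irr_self isIrr_one] at h1
    linear_combination h1
  have h22 : classInner π2 π2 = (Nat.card (Quotient (orbitRel M24 (D × D))) : ℂ) := inner_pc_self D
  have h21 : classInner π2 π1 = (Nat.card (Quotient (orbitRel M24 (D × GolayPt))) : ℂ) := inner_pc_pc D GolayPt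
  have h12 : classInner π1 π2 = (Nat.card (Quotient (orbitRel M24 (D × GolayPt))) : ℂ) := by
    rw [← classInner_conj_symm, h21, Complex.conj_natCast]
  have hval : (π2 - π1) 1 = 252 := by
    rw [Pi.sub_apply, π1, π2, pc_one, pc_one, card_D, card_P]
    norm_num
  have hgen : IsGeneralizedCharacter M24 (π2 - π1) := by
    rw [isGeneralizedCharacter_def]
    exact ⟨_, _, Cfsg.Agent.S0157.isCharacter_fixedBy D, Cfsg.Agent.S0157.isCharacter_fixedBy GolayPt, rfl⟩
  have ho := orbits_DD
  have ho' := orbits_DP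
  have hnorm : classInner (π2 - π1) (π2 - π1) = (((Nat.card (Quotient (orbitRel M24 (D × D))) : ℤ) -
      2 * (Nat.card (Quotient (orbitRel M24 (D × GolayPt))) : ℤ) + 2 : ℤ) : ℂ) := by
    rw [classInner_sub_left, classInner_sub_right, classInner_sub_right, h22, h21, h12, h11]
    push_cast
    ring
  generalize Nat.card (Quotient (orbitRel M24 (D × D))) = u at *
  generalize Nat.card (Quotient (orbitRel M24 (D × GolayPt))) = v at *
  have hpos : (0 : ℤ) < (u : ℤ) - 2 * (v : ℤ) + 2 := by
    have h4 := classInner_self_eq_ofReal (π2 - π1)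
    rw [hnorm] at h4
    have h5 : (((u : ℤ) - 2 * (v : ℤ) + 2 : ℤ) : ℝ) =
        (Nat.card M24 : ℝ)⁻¹ * ∑ g : M24, Complex.normSq ((π2 - π1) g) := by exact_mod_cast h4
    have h6 : (0 : ℝ) < (((u : ℤ) - 2 * (v : ℤ) + 2 : ℤ) : ℝ) := by
      rw [h5]
      refine mul_pos (inv_pos.2 (by exact_mod_cast Nat.card_pos)) ?_
      refine Finset.sum_pos' (fun _ _ => Complex.normSq_nonneg _) ⟨1, Finset.mem_univ _, ?_⟩
      rw [Complex.normSq_pos, hval]
      norm_num
    exact_mod_cast h6
  have hone : (u : ℤ) - 2 * (v : ℤ) + 2 = 1 := by omega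
  rw [hone] at hnorm
  rcases isIrr_of_generalized hgen (by rw [hnorm]; norm_num) with h | h
  · exact h
  · exfalso
    obtain ⟨n, hn, hn'⟩ := isIrr_apply_one h
    rw [Pi.neg_apply, hval] at hn'
    have h4 : ((n : ℤ) : ℂ) + ((252 : ℤ) : ℂ) = 0 := by
      push_cast
      rw [← hn']
      ring
    have h5 : (n : ℤ) + 252 = 0 := by exact_mod_cast h4
    omega

theorem tau_one : (π1 - 1) 1 = 23 := by
  rw [Pi.sub_apply, π1, pc_one, card_P]
  norm_num

theorem omega_one : (π2 - π1) 1 = 252 := by
  rw [Pi.sub_apply, π1, π2, pc_one, pc_one, card_D, card_P]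
  norm_num

theorem tau_ne : π1 - 1 ≠ π2 - π1 := by
  intro h
  have h1 := tau_one
  rw [h, omega_one] at h1
  norm_num at h1

end m24

/-! ### the weights -/

section weights

open Cfsg.Agent.H843.IMC.Lam Cfsg.Agent.H843.IMC.LamCo1 Cfsg.Agent.H419.LeechIrr
open Cfsg.Agent.SporadicA.Co0Mono Cfsg.Agent.SporadicA.Co1Simple
open Cfsg.Agent.SporadicStructure.Co0Base
open Cfsg.Agent.H419.Spor.Co1 (chi chi_one chi_neg psi psi_one isCharacter_psi)
open Cfsg.Agent.CoOneType.CoOneE (pr pr_surjective)
open Cfsg.Agent.H843.IMC.Co1B (sg0 om om_one exists_276 exists_299 chi_real)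
open Cfsg.Agent.SporadicStructure.GolayInterp (exists_word_interp)

abbrev E : Type := Multiplicative golayCode

/-- the value of a word at a point -/
def vl (e : E) (i : GolayPt) : ZMod 2 := ((e.toAdd : golayCode) : GolayPt → ZMod 2) i

theorem vl_mul (e e' : E) (i : GolayPt) : vl (e * e') i = vl e i + vl e' i := rfl

theorem sgnC_add (a b : ZMod 2) : sgnC (a + b) = sgnC a * sgnC b := by
  have h := sgnC_sum ![a, b]
  simpa [Fin.sum_univ_two, Fin.prod_univ_two] using h

/-- the linear character of a set of points -/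
noncomputable def lh (X : Finset GolayPt) : E →* ℂˣ where
  toFun e := sgnU (Multiplicative.ofAdd (∑ i ∈ X, vl e i))
  map_one' := by
    have : ∑ i ∈ X, vl 1 i = 0 := Finset.sum_eq_zero fun i _ => rfl
    rw [this]
    exact map_one sgnU
  map_mul' a b := by
    rw [← map_mul sgnU, ← ofAdd_add, ← Finset.sum_add_distrib]
    rfl

noncomputable def lx (X : Finset GolayPt) (e : E) : ℂ := sgnC (∑ i ∈ X, vl e i)

theorem irr_lx (X : Finset GolayPt) : IsIrrCharacter E (lx X) :=
  Cfsg.Agent.CharDeep.LinearChar.isIrrCharacter_of_hom (lh X)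

theorem lx_mul (X Y : Finset GolayPt) (e : E) : lx X e * lx Y e = lx (symmDiff X Y) e := by
  rw [lx, lx, lx, ← sgnC_add]
  congr 1
  have h1 : ∑ i ∈ X, vl e i = ∑ i ∈ X \ Y, vl e i + ∑ i ∈ X ∩ Y, vl e i := by
    rw [Finset.inter_comm, ← Finset.sum_union (by
      rw [Finset.disjoint_left]
      intro i h1 h2
      exact (Finset.mem_sdiff.1 h1).2 (Finset.mem_inter.1 h2).1)]
    congr 1
    ext i
    rw [Finset.mem_union, Finset.mem_sdiff, Finset.mem_inter]
    tauto
  have h2 : ∑ i ∈ Y, vl e i = ∑ i ∈ Y \ X, vl e i + ∑ i ∈ X ∩ Y, vl e i := by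
    rw [← Finset.sum_union (by
      rw [Finset.disjoint_left]
      intro i h1 h2
      exact (Finset.mem_sdiff.1 h1).2 (Finset.mem_inter.1 h2).1)]
    congr 1
    ext i
    rw [Finset.mem_union, Finset.mem_sdiff, Finset.mem_inter]
    tauto
  have h3 : ∑ i ∈ symmDiff X Y, vl e i = ∑ i ∈ X \ Y, vl e i + ∑ i ∈ Y \ X, vl e i := by
    rw [← Finset.sum_union (by
      rw [Finset.disjoint_left]
      intro i h1 h2
      exact (Finset.mem_sdiff.1 h1).2 (Finset.mem_sdiff.1 h2).1)]
    rfl
  rw [h1, h2, h3]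
  have h4 : ∀ a b c : ZMod 2, a + c + (b + c) = a + b := by decide
  exact h4 _ _ _

theorem lx_empty : lx ∅ = 1 := by
  funext e
  rw [lx, Finset.sum_empty]
  exact sgnC_zero

theorem lx_injective {X Y : Finset GolayPt} (h : (symmDiff X Y).card ≤ 7) (he : lx X = lx Y) : X = Y := by
  by_contra hne
  have h1 : (symmDiff X Y).Nonempty := by
    rw [Finset.nonempty_iff_ne_empty]
    intro h2
    exact hne (symmDiff_eq_bot.1 h2)
  obtain ⟨i₀, hi⟩ := h1
  obtain ⟨w, hw, hwi⟩ := exists_word_interp _ h (Pi.single i₀ 1)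
  have h2 : lx (symmDiff X Y) (Multiplicative.ofAdd ⟨w, hw⟩) = -1 := by
    rw [lx]
    have h3 : ∑ i ∈ symmDiff X Y, vl (Multiplicative.ofAdd (⟨w, hw⟩ : golayCode)) i = 1 := by
      show ∑ i ∈ symmDiff X Y, w i = 1
      rw [Finset.sum_congr rfl hwi, Finset.sum_pi_single', if_pos hi]
    rw [h3]
    exact sgnC_one
  have h4 : lx (symmDiff X Y) (Multiplicative.ofAdd ⟨w, hw⟩) = 1 := by
    rw [← lx_mul, he, lx_mul, symmDiff_self]
    exact congrFun lx_empty _
  rw [h4] at h2
  norm_num at h2

theorem lx_conj (X : Finset GolayPt) (e : E) : conj (lx X e) = lx X e := by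
  have h : ∀ a : ZMod 2, a = 0 ∨ a = 1 := by decide
  rw [lx]
  rcases h (∑ i ∈ X, vl e i) with h | h
  · rw [h, sgnC_zero, map_one]
  · rw [h, sgnC_one, map_neg, map_one]

theorem inner_lx [Fintype E] {X Y : Finset GolayPt} (h : (symmDiff X Y).card ≤ 7) :
    classInner (lx X) (lx Y) = if X = Y then 1 else 0 := by
  split_ifs with h1
  · rw [h1]
    exact classInner_irr_self (irr_lx Y)
  · exact classInner_irr_ne (irr_lx X) (irr_lx Y) fun h2 => h1 (lx_injective h h2)

theorem lx_pair (a b : GolayPt) (hab : a ≠ b) (e : E) : lx {a, b} e = sgnC (vl e a) * sgnC (vl e b) := by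
  rw [lx, Finset.sum_pair hab, sgnC_add]

/-! ### the matrices -/

theorem chi_eq (g : Co0) : chi g = Matrix.trace (matC g) := by
  have h := trace_repC g
  show (Cfsg.Agent.Co2Type.Mono.tr8 g : ℂ) / 8 = _
  rw [← h]
  exact Matrix.trace_toLin'_eq _

theorem matC_perm (m : M24) (i j : GolayPt) : matC (permCo0 m) i j = if i = m • j then 1 else 0 := by
  have h1 : matC (permCo0 m) i j = ((((permCo0 m • e8 j : leechLattice) : GolayPt → ℤ) i : ℤ) : ℂ) / 8 := by
    rw [matC, Matrix.map_apply, Cfsg.Agent.SigZeroCo2.Lin.mat]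
    simp
  rw [h1, permCo0_smul, permMap_apply, e8_coe, Pi.single_apply]
  have h2 : ((m : Equiv.Perm GolayPt).symm i = j) ↔ i = m • j := by
    rw [Equiv.symm_apply_eq]
    rfl
  simp only [h2]
  split_ifs <;> norm_num

theorem matC_mono (m : M24) (e : E) (i j : GolayPt) :
    matC (permCo0 m * sg0 e) i j = if i = m • j then sgnC (vl e j) else 0 := by
  rw [matC_mul]
  show (matC (permCo0 m) * matC (signCo0 e.toAdd)) i j = _
  rw [matC_sign, Matrix.mul_diagonal, matC_perm]
  split_ifs
  · rw [one_mul]; rfl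
  · rw [zero_mul]

theorem psi_eq (g : Co0) : psi g = (∑ i, ∑ j, (matC g i i * matC g j j - matC g i j * matC g j i)) / 2 := by
  rw [psi, chi_eq, chi_eq, matC_mul, Matrix.trace, Matrix.trace, pow_two, Finset.sum_mul_sum]
  congr 1
  simp only [Matrix.diag_apply, Matrix.mul_apply, ← Finset.sum_sub_distrib]

/-- a sum over the ordered pairs -/
theorem sum_pairs (F : GolayPt → GolayPt → ℂ) (H : D → ℂ) (h0 : ∀ i, F i i = 0)
    (h : ∀ (d : D) (i j : GolayPt), i ≠ j → (d : Finset GolayPt) = {i, j} → F i j = H d) :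
    ∑ i, ∑ j, F i j = 2 * ∑ d : D, H d := by
  classical
  have h1 : ∀ i j : GolayPt, F i j = ∑ d : D, if i ≠ j ∧ (d : Finset GolayPt) = {i, j} then H d else 0 := by
    intro i j
    by_cases hij : i = j
    · rw [Finset.sum_eq_zero, hij, h0]
      intro d _
      rw [if_neg fun h => h.1 hij]
    · let d0 : D := ⟨{i, j}, Finset.card_pair hij⟩
      rw [Finset.sum_eq_single d0]
      · rw [if_pos ⟨hij, rfl⟩, h d0 i j hij rfl]
      · intro d _ hd
        rw [if_neg fun h => hd (Subtype.ext h.2)]
      · intro h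
        exact absurd (Finset.mem_univ _) h
  have h2 : ∀ d : D, ∑ i : GolayPt, ∑ j : GolayPt, (if i ≠ j ∧ (d : Finset GolayPt) = {i, j} then H d else 0) =
      2 * H d := by
    intro d
    obtain ⟨a, b, hab, hd⟩ := exists_pair d
    rw [← Finset.sum_product']
    rw [Finset.sum_ite, Finset.sum_const_zero, add_zero, Finset.sum_const]
    have h3 : (Finset.univ ×ˢ Finset.univ : Finset (GolayPt × GolayPt)).filter
        (fun x => x.1 ≠ x.2 ∧ (d : Finset GolayPt) = {x.1, x.2}) = {(a, b), (b, a)} := by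
      ext x
      rw [Finset.mem_filter, Finset.mem_insert, Finset.mem_singleton, hd]
      constructor
      · rintro ⟨-, h4, h5⟩
        have h6 : a ∈ ({x.1, x.2} : Finset GolayPt) := by rw [← h5]; simp
        have h7 : b ∈ ({x.1, x.2} : Finset GolayPt) := by rw [← h5]; simp
        rw [Finset.mem_insert, Finset.mem_singleton] at h6 h7
        rcases h6 with h6 | h6 <;> rcases h7 with h7 | h7
        · exact absurd (h6.trans h7.symm) hab
        · left; exact Prod.ext h6.symm h7.symm
        · right; exact Prod.ext h7.symm h6.symm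
        · exact absurd (h6.trans h7.symm) hab
      · rintro (rfl | rfl)
        · exact ⟨Finset.mem_product.2 ⟨Finset.mem_univ _, Finset.mem_univ _⟩, hab, rfl⟩
        · exact ⟨Finset.mem_product.2 ⟨Finset.mem_univ _, Finset.mem_univ _⟩, hab.symm, Finset.pair_comm _ _⟩
    rw [h3, Finset.card_pair (by intro h; exact hab (congrArg Prod.fst h)), nsmul_eq_mul]
    norm_num
  calc ∑ i, ∑ j, F i j = ∑ i, ∑ j, ∑ d : D, (if i ≠ j ∧ (d : Finset GolayPt) = {i, j} then H d else 0) :=
        Finset.sum_congr rfl fun i _ => Finset.sum_congr rfl fun j _ => h1 i j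
    _ = ∑ d : D, ∑ i, ∑ j, (if i ≠ j ∧ (d : Finset GolayPt) = {i, j} then H d else 0) := by
        rw [Finset.sum_congr rfl fun i _ => Finset.sum_comm, Finset.sum_comm]
    _ = 2 * ∑ d : D, H d := by
        rw [Finset.mul_sum]
        exact Finset.sum_congr rfl fun d _ => h2 d

/-- the sign of a permutation on a pair -/
noncomputable def kap (m : M24) (d : D) : ℂ :=
  open Classical in if m • d = d then (if ∀ i ∈ (d : Finset GolayPt), m • i = i then 1 else -1) else 0

theorem psi_mono (m : M24) (e : E) : psi (permCo0 m * sg0 e) = ∑ d : D, kap m d * lx (d : Finset GolayPt) e := by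
  classical
  rw [psi_eq, sum_pairs _ (fun d : D => kap m d * lx (d : Finset GolayPt) e)]
  · ring
  · intro i
    ring
  · intro d i j hij hd
    simp only [matC_mono]
    rw [hd, lx_pair i j hij]
    have hst : m • d = d ↔ (m • i = i ∧ m • j = j) ∨ (m • i = j ∧ m • j = i) := by
      constructor
      · intro h
        have h1 : ({m • i, m • j} : Finset GolayPt) = {i, j} := by
          rw [← smul_pair, ← hd, ← coe_smul_D, h]
        have h2 : m • i ∈ ({i, j} : Finset GolayPt) := by rw [← h1]; simp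
        have h3 : m • j ∈ ({i, j} : Finset GolayPt) := by rw [← h1]; simp
        rw [Finset.mem_insert, Finset.mem_singleton] at h2 h3
        have h4 : m • i ≠ m • j := fun h => hij (MulAction.injective m h)
        rcases h2 with h2 | h2 <;> rcases h3 with h3 | h3
        · exact absurd (h2.trans h3.symm) h4
        · exact Or.inl ⟨h2, h3⟩
        · exact Or.inr ⟨h2, h3⟩
        · exact absurd (h2.trans h3.symm) h4
      · rintro (⟨h1, h2⟩ | ⟨h1, h2⟩)
        · exact smul_eq_of m hd hd h1 h2
        · exact smul_eq_of m hd (by rw [hd, Finset.pair_comm]) h1 h2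
    have hall : (∀ k ∈ (d : Finset GolayPt), m • k = k) ↔ (m • i = i ∧ m • j = j) := by
      rw [hd]
      simp
    unfold kap
    by_cases c1 : m • i = i ∧ m • j = j
    · rw [if_pos (hst.2 (Or.inl c1)), if_pos (hall.2 c1), if_pos c1.1.symm, if_pos c1.2.symm,
        if_neg (show ¬ i = m • j by rw [c1.2]; exact hij)]
      ring
    · by_cases c2 : m • i = j ∧ m • j = i
      · rw [if_pos (hst.2 (Or.inr c2)), if_neg fun h => c1 (hall.1 h), if_neg (show ¬ i = m • i by rw [c2.1]; exact hij),
          if_pos c2.2.symm, if_pos c2.1.symm]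
        ring
      · rw [if_neg fun h => (hst.1 h).elim c1 c2, zero_mul]
        have t1 : (if i = m • i then sgnC (vl e i) else 0) * (if j = m • j then sgnC (vl e j) else 0) = 0 := by
          by_cases h1 : i = m • i
          · by_cases h2 : j = m • j
            · exact absurd ⟨h1.symm, h2.symm⟩ c1
            · rw [if_neg h2, mul_zero]
          · rw [if_neg h1, zero_mul]
        have t2 : (if i = m • j then sgnC (vl e j) else 0) * (if j = m • i then sgnC (vl e i) else 0) = 0 := by
          by_cases h1 : i = m • j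
          · by_cases h2 : j = m • i
            · exact absurd ⟨h2.symm, h1.symm⟩ c2
            · rw [if_neg h2, mul_zero]
          · rw [if_neg h1, zero_mul]
        rw [t1, t2, sub_zero]

/-! ### averages over the signs -/

/-- the sign changes -/
noncomputable def ff : E →* Spor.Co1 := pr.comp sg0

/-- the permutations -/
noncomputable def pp : M24 →* Spor.Co1 := pr.comp permCo0

theorem norm_ff (m : M24) : ∃ σ : E ≃ E, ∀ e, ff (σ e) * pp m = pp m * ff e := by
  refine ⟨(wp m).toEquiv, fun e => ?_⟩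
  show pr (signCo0 (wordPerm m e.toAdd)) * pr (permCo0 m) = pr (permCo0 m) * pr (signCo0 e.toAdd)
  rw [← map_mul, ← map_mul, perm_mul_sign]

theorem avg_lx [Fintype E] {X Y : Finset GolayPt} (h : (symmDiff X Y).card ≤ 7) :
    (Nat.card E : ℂ)⁻¹ * ∑ e : E, lx X e * lx Y e = if X = Y then 1 else 0 := by
  rw [← inner_lx h, classInner_def]
  simp only [lx_conj]

theorem card_sd (d d' : D) : (symmDiff (d : Finset GolayPt) (d' : Finset GolayPt)).card ≤ 4 := by
  have h1 : (symmDiff (d : Finset GolayPt) (d' : Finset GolayPt)) ⊆ (d : Finset GolayPt) ∪ d' := by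
    intro i hi
    rw [Finset.mem_symmDiff] at hi
    rw [Finset.mem_union]
    tauto
  have h2 := (Finset.card_le_card h1).trans (Finset.card_union_le _ _)
  rw [d.2, d'.2] at h2
  exact h2

theorem avg_D [Fintype E] (d d' : D) :
    (Nat.card E : ℂ)⁻¹ * ∑ e : E, lx (d : Finset GolayPt) e * lx (d' : Finset GolayPt) e = if d = d' then 1 else 0 := by
  classical
  rw [avg_lx ((card_sd d d').trans (by norm_num))]
  by_cases h : d = d'
  · rw [if_pos h, if_pos (by rw [h])]
  · rw [if_neg h, if_neg fun h1 => h (Subtype.ext h1)]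

theorem kap_sq (m : M24) (d : D) [Decidable (m • d = d)] : kap m d * kap m d = if m • d = d then 1 else 0 := by
  unfold kap
  by_cases h : m • d = d
  · rw [if_pos h, if_pos h]
    split_ifs <;> norm_num
  · rw [if_neg h, if_neg h, zero_mul]

theorem sum_fix {X : Type*} [Fintype X] [DecidableEq X] [MulAction M24 X] (m : M24) :
    ∑ d : X, (if m • d = d then (1 : ℂ) else 0) = (Nat.card (fixedBy X m) : ℂ) := by
  classical
  rw [Finset.sum_boole, Nat.card_eq_fintype_card, ← Fintype.card_subtype]
  congr 1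

section chars

variable [Fintype Spor.Co1] [Fintype E] {ψ ξ : IrrCharacter Spor.Co1} (hψ : ∀ g : Co0, (ψ : Spor.Co1 → ℂ) (pr g) = psi g)
  (hξ : ∀ g : Co0, om g = 1 + (ξ : Spor.Co1 → ℂ) (pr g))

include hψ in
theorem av_sq : av ff pp ((ψ : Spor.Co1 → ℂ) * (ψ : Spor.Co1 → ℂ)) = π2 := by
  classical
  funext m
  have h1 : ∀ e : E, ((ψ : Spor.Co1 → ℂ) * (ψ : Spor.Co1 → ℂ)) (pp m * ff e) =
      ∑ d : D, ∑ d' : D, kap m d * kap m d' * (lx (d : Finset GolayPt) e * lx (d' : Finset GolayPt) e) := by
    intro e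
    have h2 : (ψ : Spor.Co1 → ℂ) (pp m * ff e) = ∑ d : D, kap m d * lx (d : Finset GolayPt) e := by
      rw [← psi_mono, ← hψ, map_mul]
      rfl
    rw [Pi.mul_apply, h2, Finset.sum_mul_sum]
    exact Finset.sum_congr rfl fun d _ => Finset.sum_congr rfl fun d' _ => by ring
  rw [av, Finset.sum_congr rfl fun e _ => h1 e, Finset.sum_comm, Finset.mul_sum]
  have h3 : ∀ d : D, (Nat.card E : ℂ)⁻¹ * ∑ e : E, ∑ d' : D, kap m d * kap m d' *
      (lx (d : Finset GolayPt) e * lx (d' : Finset GolayPt) e) = kap m d * kap m d := by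
    intro d
    rw [Finset.sum_comm, Finset.mul_sum, Finset.sum_eq_single d]
    · rw [← Finset.mul_sum, mul_left_comm, avg_D, if_pos rfl, mul_one]
    · intro d' _ hd'
      rw [← Finset.mul_sum, mul_left_comm, avg_D, if_neg (Ne.symm hd'), mul_zero]
    · intro h
      exact absurd (Finset.mem_univ _) h
  rw [Finset.sum_congr rfl fun d _ => h3 d, Finset.sum_congr rfl fun d _ => kap_sq m d, sum_fix]
  rfl

theorem avg_psi (m : M24) : (Nat.card E : ℂ)⁻¹ * ∑ e : E, psi (permCo0 m * sg0 e) = 0 := by
  classical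
  rw [Finset.sum_congr rfl fun e _ => psi_mono m e, Finset.sum_comm, Finset.mul_sum, Finset.sum_eq_zero]
  intro d _
  have h0 : symmDiff (d : Finset GolayPt) ∅ = d := symmDiff_bot _
  have h1 := avg_lx (X := (d : Finset GolayPt)) (Y := ∅) (by
    rw [h0, d.2]
    norm_num)
  rw [← Finset.mul_sum, mul_left_comm]
  have h2 : (Nat.card E : ℂ)⁻¹ * ∑ e : E, lx (d : Finset GolayPt) e = 0 := by
    rw [if_neg] at h1
    · rw [← h1]
      congr 1
      refine Finset.sum_congr rfl fun e _ => ?_
      rw [lx_empty, Pi.one_apply, mul_one]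
    · intro h3
      have h4 := d.2
      have h5 : ((d : Finset GolayPt)).card = 2 := h4
      rw [h3, Finset.card_empty] at h5
      omega
  rw [h2, mul_zero]

theorem chi_mono (m : M24) (e : E) : chi (permCo0 m * sg0 e) = ∑ i : GolayPt, (if m • i = i then 1 else 0) * lx {i} e := by
  rw [chi_eq, Matrix.trace]
  refine Finset.sum_congr rfl fun i _ => ?_
  rw [Matrix.diag_apply, matC_mono, lx, Finset.sum_singleton]
  by_cases h : m • i = i
  · rw [if_pos h, if_pos h.symm, one_mul]
  · rw [if_neg h, if_neg (Ne.symm h), zero_mul]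

theorem avg_chi (m : M24) : (Nat.card E : ℂ)⁻¹ * ∑ e : E, chi (permCo0 m * sg0 e) ^ 2 = π1 m := by
  classical
  have h1 : ∀ e : E, chi (permCo0 m * sg0 e) ^ 2 = ∑ i : GolayPt, ∑ j : GolayPt,
      (if m • i = i then (1 : ℂ) else 0) * (if m • j = j then (1 : ℂ) else 0) * (lx {i} e * lx {j} e) := by
    intro e
    rw [pow_two, chi_mono, Finset.sum_mul_sum]
    exact Finset.sum_congr rfl fun d _ => Finset.sum_congr rfl fun d' _ => by ring
  rw [Finset.sum_congr rfl fun e _ => h1 e, Finset.sum_comm, Finset.mul_sum]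
  have hc : ∀ i j : GolayPt, (symmDiff ({i} : Finset GolayPt) {j}).card ≤ 7 := by
    intro i j
    have h2 : (symmDiff ({i} : Finset GolayPt) {j}) ⊆ {i} ∪ {j} := by
      intro k hk
      rw [Finset.mem_symmDiff] at hk
      rw [Finset.mem_union]
      tauto
    have h3 := (Finset.card_le_card h2).trans (Finset.card_union_le _ _)
    rw [Finset.card_singleton, Finset.card_singleton] at h3
    omega
  have h3 : ∀ i : GolayPt, (Nat.card E : ℂ)⁻¹ * ∑ e : E, ∑ j : GolayPt,
      (if m • i = i then (1 : ℂ) else 0) * (if m • j = j then (1 : ℂ) else 0) * (lx {i} e * lx {j} e) =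
      if m • i = i then 1 else 0 := by
    intro i
    rw [Finset.sum_comm, Finset.mul_sum, Finset.sum_eq_single i]
    · rw [← Finset.mul_sum, mul_left_comm, avg_lx (hc i i), if_pos rfl, mul_one]
      split_ifs <;> norm_num
    · intro j _ hj
      rw [← Finset.mul_sum, mul_left_comm, avg_lx (hc i j), if_neg fun h => hj (Finset.singleton_injective h).symm,
        mul_zero]
    · intro h
      exact absurd (Finset.mem_univ _) h
  rw [Finset.sum_congr rfl fun d _ => h3 d]
  exact sum_fix (X := GolayPt) m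

include hξ in
theorem av_xi : av ff pp (ξ : Spor.Co1 → ℂ) = π1 - 1 := by
  classical
  funext m
  have h1 : ∀ e : E, (ξ : Spor.Co1 → ℂ) (pp m * ff e) =
      chi (permCo0 m * sg0 e) ^ 2 - psi (permCo0 m * sg0 e) - 1 := by
    intro e
    have h2 := hξ (permCo0 m * sg0 e)
    have h3 : (ξ : Spor.Co1 → ℂ) (pp m * ff e) = om (permCo0 m * sg0 e) - 1 := by
      rw [h2, map_mul]
      show (ξ : Spor.Co1 → ℂ) (pr (permCo0 m) * pr (sg0 e)) = _
      ring
    rw [h3, om, psi]
    ring
  rw [av, Finset.sum_congr rfl fun e _ => h1 e, Finset.sum_sub_distrib, Finset.sum_sub_distrib, mul_sub, mul_sub,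
    avg_chi, avg_psi, Pi.sub_apply, Pi.one_apply, sub_zero]
  congr 1
  rw [Finset.sum_const, Finset.card_univ, nsmul_eq_mul, mul_one, ← Nat.card_eq_fintype_card,
    inv_mul_cancel₀ card_ne_zero_complex]

theorem av_const : av ff pp (1 : Spor.Co1 → ℂ) = 1 := by
  funext m
  rw [av]
  simp only [Pi.one_apply]
  rw [Finset.sum_const, Finset.card_univ, nsmul_eq_mul, mul_one, ← Nat.card_eq_fintype_card,
    inv_mul_cancel₀ card_ne_zero_complex]

/-- the possible dimensions of the fixed points of the sign changes -/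
theorem av_cases (hψ : ∀ g : Co0, (ψ : Spor.Co1 → ℂ) (pr g) = psi g) {θ β : Spor.Co1 → ℂ} (hθ : IsCharacter Spor.Co1 θ)
    (hβ : IsCharacter Spor.Co1 β) (h : (ψ : Spor.Co1 → ℂ) * (ψ : Spor.Co1 → ℂ) = 1 + (θ + β)) :
    classInner (θ ∘ ff) 1 = 0 ∨ classInner (θ ∘ ff) 1 = 23 ∨ classInner (θ ∘ ff) 1 = 252 ∨
      classInner (θ ∘ ff) 1 = 275 := by
  classical
  have := Fintype.ofFinite M24
  have h1 := av_sq hψ
  rw [h, av_add, av_add, av_const] at h1
  have h2 : av ff pp θ + av ff pp β = (π1 - 1) + (π2 - π1) := by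
    rw [← h1]; ring
  rw [← av_one ff pp θ]
  rcases two_parts (isCharacter_av ff pp norm_ff hθ) (isCharacter_av ff pp norm_ff hβ) irr_tau irr_omega tau_ne h2 with
    h3 | h3 | h3 | h3
  · left; rw [h3]; rfl
  · right; left; rw [h3, tau_one]
  · right; right; left; rw [h3, omega_one]
  · right; right; right; rw [h3, Pi.add_apply, tau_one, omega_one]; norm_num

theorem av_cases' (hψ : ∀ g : Co0, (ψ : Spor.Co1 → ℂ) (pr g) = psi g)
    (hξ : ∀ g : Co0, om g = 1 + (ξ : Spor.Co1 → ℂ) (pr g)) {θ β : Spor.Co1 → ℂ} (hθ : IsCharacter Spor.Co1 θ)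
    (hβ : IsCharacter Spor.Co1 β)
    (h : (ψ : Spor.Co1 → ℂ) * (ψ : Spor.Co1 → ℂ) = 1 + ((ξ : Spor.Co1 → ℂ) + (θ + β))) :
    classInner (θ ∘ ff) 1 = 0 ∨ classInner (θ ∘ ff) 1 = 252 := by
  classical
  have := Fintype.ofFinite M24
  have h1 := av_sq hψ
  rw [h, av_add, av_add, av_add, av_const, av_xi hξ] at h1
  have h2 : av ff pp θ + av ff pp β = π2 - π1 := by
    rw [← h1]; ring
  rw [← av_one ff pp θ]
  rcases one_part (isCharacter_av ff pp norm_ff hθ) (isCharacter_av ff pp norm_ff hβ) irr_omega h2 with h3 | h3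
  · left; rw [h3]; rfl
  · right; rw [h3, omega_one]

end chars

/-! ### the degrees -/

section degrees

open Cfsg.Agent.H843.IMC.Syn Cfsg.Agent.SporadicStructure.M24El Cfsg.Agent.SporadicA.GolayBase

open scoped Pointwise in
theorem lx_smul (m : M24) (X : Finset GolayPt) (e : E) : lx (m • X) (wp m e) = lx X e := by
  rw [lx, lx]
  congr 1
  have h1 : m • X = X.image fun i => m • i := rfl
  rw [h1, Finset.sum_image fun a _ b _ h => MulAction.injective m h]
  refine Finset.sum_congr rfl fun i _ => ?_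
  show ((e.toAdd : golayCode) : GolayPt → ZMod 2) ((m : Equiv.Perm GolayPt).symm ((m : Equiv.Perm GolayPt) i)) = _
  rw [Equiv.symm_apply_apply]
  rfl

theorem ff_wp (m : M24) (e : E) : ff (wp m e) = pp m * ff e * (pp m)⁻¹ := by
  show pr (signCo0 (wordPerm m e.toAdd)) = pr (permCo0 m) * pr (signCo0 e.toAdd) * (pr (permCo0 m))⁻¹
  rw [← perm_mul_sign_mul_inv, map_mul, map_mul, map_inv]

theorem inner_comp_wp [Fintype E] {θ : Spor.Co1 → ℂ} (hθ : IsClassFunction Spor.Co1 θ) (m : M24) (η : E → ℂ) :
    classInner (θ ∘ ff) (η ∘ wp m) = classInner (θ ∘ ff) η := by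
  rw [classInner_def, classInner_def]
  congr 1
  rw [← Equiv.sum_comp (wp m).toEquiv (fun e => (θ ∘ ff) e * conj (η e))]
  refine Finset.sum_congr rfl fun e _ => ?_
  show θ (ff e) * conj (η (wp m e)) = θ (ff (wp m e)) * conj (η (wp m e))
  rw [ff_wp, hθ]

theorem inner_D [Fintype E] {θ : Spor.Co1 → ℂ} (hθ : IsClassFunction Spor.Co1 θ) (d d' : D) :
    classInner (θ ∘ ff) (lx (d : Finset GolayPt)) = classInner (θ ∘ ff) (lx (d' : Finset GolayPt)) := by
  obtain ⟨g, hg⟩ := exists_smul_eq M24 d d'
  rw [← inner_comp_wp hθ g (lx (d' : Finset GolayPt))]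
  congr 1
  funext e
  rw [Function.comp_apply, ← hg, coe_smul_D, lx_smul]

theorem psi_ff (e : E) : psi (sg0 e) = ∑ d : D, lx (d : Finset GolayPt) e := by
  have h := psi_mono 1 e
  rw [map_one, one_mul] at h
  rw [h]
  refine Finset.sum_congr rfl fun d _ => ?_
  rw [kap, if_pos (one_smul _ _), if_pos fun i _ => one_smul _ _, one_mul]

/-- a weight of the square is the sum of two pairs -/
theorem exists_weight [Fintype E] {ψ : Spor.Co1 → ℂ} (hψ : ∀ g : Co0, ψ (pr g) = psi g) {η : E → ℂ}
    (hη : IsIrrCharacter E η) (h0 : classInner ((ψ * ψ) ∘ ff) η ≠ 0) :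
    ∃ d d' : D, η = lx (symmDiff (d : Finset GolayPt) (d' : Finset GolayPt)) := by
  classical
  by_contra hcon
  push Not at hcon
  apply h0
  have h1 : (ψ * ψ) ∘ ff = ∑ d : D, ∑ d' : D, lx (symmDiff (d : Finset GolayPt) (d' : Finset GolayPt)) := by
    funext e
    have h2 : ψ (ff e) = ∑ d : D, lx (d : Finset GolayPt) e := by
      rw [← psi_ff, ← hψ]
      rfl
    rw [Function.comp_apply, Pi.mul_apply, h2, Finset.sum_mul_sum, Finset.sum_apply]
    refine Finset.sum_congr rfl fun d _ => ?_
    rw [Finset.sum_apply]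
    exact Finset.sum_congr rfl fun d' _ => lx_mul _ _ e
  rw [h1, classInner_sum_left, Finset.sum_eq_zero]
  intro d _
  rw [classInner_sum_left, Finset.sum_eq_zero]
  intro d' _
  exact classInner_irr_ne (irr_lx _) hη (Ne.symm (hcon d d'))

theorem sq_ff [Fintype E] {ψ : Spor.Co1 → ℂ} (hψ : ∀ g : Co0, ψ (pr g) = psi g) :
    (ψ * ψ) ∘ ff = ∑ x : D × D, lx (symmDiff (x.1 : Finset GolayPt) (x.2 : Finset GolayPt)) := by
  classical
  funext e
  have h2 : ψ (ff e) = ∑ d : D, lx (d : Finset GolayPt) e := by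
    rw [← psi_ff, ← hψ]
    rfl
  rw [Function.comp_apply, Pi.mul_apply, h2, Finset.sum_mul_sum, Finset.sum_apply, Fintype.sum_prod_type]
  exact Finset.sum_congr rfl fun d _ => Finset.sum_congr rfl fun d' _ => lx_mul _ _ e

/-- the pairs of pairs with a given sum -/
theorem count (d₀ : D) : (Finset.univ.filter fun x : D × D =>
    symmDiff (x.1 : Finset GolayPt) (x.2 : Finset GolayPt) = d₀).card ≤ 44 := by
  classical
  let g : D × D → Finset GolayPt := fun x => x.1
  have hinj : Set.InjOn g (Finset.univ.filter fun x : D × D =>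
      symmDiff (x.1 : Finset GolayPt) (x.2 : Finset GolayPt) = d₀) := by
    intro x hx y hy hxy
    rw [Finset.mem_coe, Finset.mem_filter] at hx hy
    have h1 : (x.1 : Finset GolayPt) = y.1 := hxy
    have h2 : symmDiff (x.1 : Finset GolayPt) (x.2 : Finset GolayPt) =
        symmDiff (x.1 : Finset GolayPt) (y.2 : Finset GolayPt) := by
      rw [hx.2, h1, hy.2]
    have h3 : (x.2 : Finset GolayPt) = y.2 := symmDiff_right_injective _ h2
    exact Prod.ext (Subtype.ext h1) (Subtype.ext h3)
  rw [← Finset.card_image_of_injOn hinj]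
  have hsub : (Finset.univ.filter fun x : D × D =>
      symmDiff (x.1 : Finset GolayPt) (x.2 : Finset GolayPt) = d₀).image g ⊆
      ((d₀ : Finset GolayPt) ×ˢ ((d₀ : Finset GolayPt)ᶜ)).image fun y => ({y.1, y.2} : Finset GolayPt) := by
    intro X hX
    obtain ⟨x, hx, rfl⟩ := Finset.mem_image.1 hX
    rw [Finset.mem_filter] at hx
    have hx2 := hx.2
    -- the size of the intersection
    have hic : ic x = 1 := by
      have h1 := ic_le x
      have h3 : ic x = 0 ∨ ic x = 1 ∨ ic x = 2 := by omega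
      rcases h3 with h3 | h3 | h3
      · exfalso
        obtain ⟨y, hy, e1, e2⟩ := zero_of_ic h3
        have h4 : ({y 0, y 1, y 2} : Finset GolayPt) ⊆ (d₀ : Finset GolayPt) := by
          rw [← hx2, e1, e2]
          intro i hi
          rw [Finset.mem_insert, Finset.mem_insert, Finset.mem_singleton] at hi
          rw [Finset.mem_symmDiff]
          simp only [Finset.mem_insert, Finset.mem_singleton]
          rcases hi with rfl | rfl | rfl
          · left
            exact ⟨Or.inl rfl, fun h => by rcases h with h | h <;> exact absurd (hy h) (by decide)⟩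
          · left
            exact ⟨Or.inr rfl, fun h => by rcases h with h | h <;> exact absurd (hy h) (by decide)⟩
          · right
            exact ⟨Or.inl rfl, fun h => by rcases h with h | h <;> exact absurd (hy h) (by decide)⟩
        have h5 := Finset.card_le_card h4
        rw [d₀.2, Finset.card_insert_of_notMem, Finset.card_pair] at h5
        · omega
        · exact fun h => absurd (hy h) (by decide)
        · simp only [Finset.mem_insert, Finset.mem_singleton]
          exact fun h => by rcases h with h | h <;> exact absurd (hy h) (by decide)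
      · exact h3
      · exfalso
        rw [eq_of_ic h3, symmDiff_self] at hx2
        have h4 := d₀.2
        rw [← hx2] at h4
        have h5 : (⊥ : Finset GolayPt).card = 0 := Finset.card_empty
        have h6 : (⊥ : Finset GolayPt).card = 2 := h4
        omega
    obtain ⟨y, hy, e1, e2⟩ := one_of_ic hic
    rw [Finset.mem_image]
    refine ⟨(y 1, y 0), ?_, ?_⟩
    · rw [Finset.mem_product, Finset.mem_compl, ← hx2, e1, e2, Finset.mem_symmDiff, Finset.mem_symmDiff]
      simp only [Finset.mem_insert, Finset.mem_singleton]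
      refine ⟨Or.inl ⟨Or.inr trivial, fun h => by rcases h with h | h <;> exact absurd (hy h) (by decide)⟩, ?_⟩
      rintro (⟨-, h⟩ | ⟨-, h⟩)
      · exact h (Or.inl trivial)
      · exact h (Or.inl trivial)
    · show ({y 1, y 0} : Finset GolayPt) = x.1
      rw [e1, Finset.pair_comm]
  refine (Finset.card_le_card hsub).trans (Finset.card_image_le.trans ?_)
  rw [Finset.card_product, Finset.card_compl, d₀.2, Cfsg.Agent.SporadicA.LeechMin.card_pts]

/-- multiplicity of a pair in the square -/
theorem inner_sq [Fintype E] {ψ : Spor.Co1 → ℂ} (hψ : ∀ g : Co0, ψ (pr g) = psi g) (d₀ : D) :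
    ∃ n : ℕ, n ≤ 44 ∧ classInner ((ψ * ψ) ∘ ff) (lx (d₀ : Finset GolayPt)) = n := by
  classical
  refine ⟨_, count d₀, ?_⟩
  rw [sq_ff hψ, classInner_sum_left, ← Finset.sum_boole]
  refine Finset.sum_congr rfl fun x _ => ?_
  rw [inner_lx]
  have h1 : symmDiff (symmDiff (x.1 : Finset GolayPt) (x.2 : Finset GolayPt)) (d₀ : Finset GolayPt) ⊆
      symmDiff (x.1 : Finset GolayPt) (x.2 : Finset GolayPt) ∪ d₀ := by
    intro i hi
    rw [Finset.mem_symmDiff] at hi
    rw [Finset.mem_union]
    tauto
  have h2 := (Finset.card_le_card h1).trans (Finset.card_union_le _ _)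
  rw [d₀.2] at h2
  have h3 := card_sd x.1 x.2
  omega

theorem inner_sq_one [Fintype E] {ψ : Spor.Co1 → ℂ} (hψ : ∀ g : Co0, ψ (pr g) = psi g) :
    classInner ((ψ * ψ) ∘ ff) 1 = 276 := by
  classical
  rw [sq_ff hψ, classInner_sum_left]
  have h1 : ∀ x : D × D, classInner (lx (symmDiff (x.1 : Finset GolayPt) (x.2 : Finset GolayPt))) 1 =
      if x.1 = x.2 then 1 else 0 := by
    intro x
    rw [← lx_empty, inner_lx]
    · congr 1
      apply propext
      constructor
      · intro h
        exact Subtype.ext (symmDiff_eq_bot.1 h)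
      · intro h
        rw [h, symmDiff_self]
        rfl
    · have h0 : symmDiff (symmDiff (x.1 : Finset GolayPt) (x.2 : Finset GolayPt)) ∅ =
          symmDiff (x.1 : Finset GolayPt) (x.2 : Finset GolayPt) := symmDiff_bot _
      rw [h0]
      exact (card_sd x.1 x.2).trans (by norm_num)
  rw [Finset.sum_congr rfl fun x _ => h1 x, Fintype.sum_prod_type]
  simp only [Finset.sum_ite_eq, Finset.mem_univ, if_true]
  rw [Finset.sum_const, Finset.card_univ, nsmul_eq_mul, mul_one, ← Nat.card_eq_fintype_card, card_D]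
  norm_num

/-- the linear characters of the pairs -/
noncomputable def dc (d : D) : IrrCharacter E := ⟨lx (d : Finset GolayPt), irr_lx _⟩

noncomputable def oneE : IrrCharacter E := ⟨1, isIrr_one⟩

theorem dc_injective : Function.Injective dc := by
  intro d d' h
  have h1 : lx (d : Finset GolayPt) = lx (d' : Finset GolayPt) := congrArg Subtype.val h
  exact Subtype.ext (lx_injective ((card_sd d d').trans (by norm_num)) h1)

theorem dc_ne_one (d : D) : dc d ≠ oneE := by
  intro h
  have h1 : lx (d : Finset GolayPt) = 1 := congrArg Subtype.val h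
  rw [← lx_empty] at h1
  have h0 : symmDiff (d : Finset GolayPt) ∅ = d := symmDiff_bot _
  have h2 := lx_injective (by rw [h0, d.2]; norm_num) h1
  have h3 : ((d : Finset GolayPt)).card = 2 := d.2
  rw [h2, Finset.card_empty] at h3
  omega

theorem deg_dc (d : D) : charDegree (dc d : E → ℂ) = 1 := by
  apply Cfsg.Agent.Blocks.Basic.charDegree_of_eq
  show lx (d : Finset GolayPt) 1 = _
  rw [lx]
  have : ∑ i ∈ (d : Finset GolayPt), vl 1 i = 0 := Finset.sum_eq_zero fun i _ => rfl
  rw [this, sgnC_zero]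
  norm_num

theorem deg_oneE : charDegree (oneE : E → ℂ) = 1 := by
  apply Cfsg.Agent.Blocks.Basic.charDegree_of_eq
  show (1 : E → ℂ) 1 = _
  simp

/-- the set of the weights `0` and the pairs -/
def sp (η : IrrCharacter E) : Prop := η = oneE ∨ ∃ d, η = dc d

/-- the permutation of the characters of the signs -/
noncomputable def tw (m : M24) : Equiv.Perm (IrrCharacter E) where
  toFun η := ⟨(η : E → ℂ) ∘ wp m, isIrr_comp (wp m).toMonoidHom (wp m).surjective η.2⟩
  invFun η := ⟨(η : E → ℂ) ∘ (wp m).symm, isIrr_comp (wp m).symm.toMonoidHom (wp m).symm.surjective η.2⟩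
  left_inv η := by
    apply Subtype.ext
    funext e
    show (η : E → ℂ) (wp m ((wp m).symm e)) = _
    rw [(wp m).apply_symm_apply]
  right_inv η := by
    apply Subtype.ext
    funext e
    show (η : E → ℂ) ((wp m).symm (wp m e)) = _
    rw [(wp m).symm_apply_apply]

theorem tw_apply (m : M24) (η : IrrCharacter E) : (tw m η : E → ℂ) = (η : E → ℂ) ∘ wp m := rfl

theorem wp_mul (m m' : M24) (e : E) : wp (m * m') e = wp m (wp m' e) := rfl

theorem wp_one (e : E) : wp 1 e = e := rfl

theorem tw_pow (m : M24) (k : ℕ) (η : IrrCharacter E) : ((tw m ^ k) η : E → ℂ) = (η : E → ℂ) ∘ wp (m ^ k) := by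
  induction k with
  | zero => rfl
  | succ k ih =>
    rw [pow_succ', Equiv.Perm.mul_apply, tw_apply, ih]
    funext e
    rw [Function.comp_apply, Function.comp_apply, Function.comp_apply, ← wp_mul, ← pow_succ]

theorem tw_one : tw 1 = 1 := by
  apply Equiv.ext
  intro η
  rfl

theorem sp_tw (m : M24) (η : IrrCharacter E) (h : sp η) : sp (tw m η) := by
  rcases h with rfl | ⟨d, rfl⟩
  · left
    rfl
  · right
    refine ⟨m⁻¹ • d, Subtype.ext ?_⟩
    rw [tw_apply]
    funext e
    show lx (d : Finset GolayPt) (wp m e) = lx ((m⁻¹ • d : D) : Finset GolayPt) e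
    rw [← lx_smul m ((m⁻¹ • d : D) : Finset GolayPt) e, ← coe_smul_D, smul_inv_smul]

theorem sp_tw_iff {m : M24} {k : ℕ} (hm : m ^ k = 1) (hk : k ≠ 0) (η : IrrCharacter E) : sp (tw m η) ↔ sp η := by
  refine ⟨fun h => ?_, sp_tw m η⟩
  have h1 : ∀ j : ℕ, sp (tw (m ^ j) (tw m η)) := fun j => sp_tw _ _ h
  have h2 : tw (m ^ (k - 1)) (tw m η) = η := by
    apply Subtype.ext
    rw [tw_apply, tw_apply]
    funext e
    rw [Function.comp_apply, Function.comp_apply, ← wp_mul, ← pow_succ', Nat.sub_add_cancel (Nat.pos_of_ne_zero hk), hm,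
      wp_one]
  rw [← h2]
  exact h1 _

theorem deg_tw (m : M24) (η : IrrCharacter E) : charDegree (tw m η : E → ℂ) = charDegree (η : E → ℂ) := by
  unfold charDegree
  rw [tw_apply, Function.comp_apply, map_one]

theorem vl_wp (m : M24) (e : E) (i : GolayPt) : vl (wp m e) i = vl e (m⁻¹ • i) := rfl

/-- **the weights of the four-subsets are moved by the elements of order 7, 11, 23** -/
theorem moved {P : ℕ} (hP : ok P = true)
    (hchk : chk 4 0 ((List.range 24).map (syn P ((List.range 12).map basisMask))) = true) {y : Fin 4 → GolayPt}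
    (hy : Function.Injective y) : lx (symmDiff {y 0, y 1} {y 2, y 3}) ∘ wp (el P) ≠ lx (symmDiff {y 0, y 1} {y 2, y 3}) := by
  intro hcon
  have hval : ∀ e : E, lx (symmDiff {y 0, y 1} {y 2, y 3}) e = sgnC (∑ t, vl e (y t)) := by
    intro e
    rw [← lx_mul, lx_pair _ _ (fun h => absurd (hy h) (by decide)), lx_pair _ _ (fun h => absurd (hy h) (by decide)),
      Fin.sum_univ_four, sgnC_add, sgnC_add, sgnC_add]
    ring
  have hinj : Function.Injective fun t => (el P)⁻¹ • y t := fun s t h => hy (MulAction.injective _ h)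
  obtain ⟨m, hm, hne⟩ := exists_moved hP hchk hinj
  obtain ⟨e, he⟩ : ∃ e : E, ((e.toAdd : golayCode) : GolayPt → ZMod 2) = word m := by
    obtain ⟨i, hi, rfl⟩ := List.mem_map.1 hm
    rw [List.mem_range] at hi
    obtain ⟨h0, h1, h2, h3, h4, h5, h6, h7, h8, h9, h10, h11⟩ := basis_mem
    have h : word (basisMask i) ∈ golayCode := by
      interval_cases i
      · exact h0
      · exact h1
      · exact h2
      · exact h3
      · exact h4
      · exact h5
      · exact h6
      · exact h7
      · exact h8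
      · exact h9
      · exact h10
      · exact h11
    exact ⟨Multiplicative.ofAdd ⟨_, h⟩, rfl⟩
  have h1 := congrFun hcon e
  rw [Function.comp_apply, hval, hval] at h1
  have h2 := sgnC_injective h1
  apply hne
  have h3 : ∀ i, vl e i = word m i := fun i => congrFun he i
  simp only [vl_wp, h3] at h2
  simp only [smul_inv_smul]
  exact h2

theorem primes_dvd {n : ℕ} (h7 : 7 ∣ n) (h11 : 11 ∣ n) (h23 : 23 ∣ n) : 1771 ∣ n := by
  have h1 : 7 * 11 ∣ n := Nat.Coprime.mul_dvd_of_dvd_of_dvd (by norm_num) h7 h11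
  exact Nat.Coprime.mul_dvd_of_dvd_of_dvd (m := 7 * 11) (n := 23) (by norm_num) h1 h23

/-- **the degrees of the constituents of the symmetric and the exterior square** -/
theorem degree [Fintype Spor.Co1] [Fintype E] {ψ : Spor.Co1 → ℂ} (hψ : ∀ g : Co0, ψ (pr g) = psi g)
    {T θ β : Spor.Co1 → ℂ} (hθ : IsCharacter Spor.Co1 θ) (hβ : IsCharacter Spor.Co1 β) (hT : T = θ + β) {k : ℂ}
    (hTf : ∀ e, T (ff e) = (ψ (ff e) * ψ (ff e) + k) / 2) :
    ∃ c a b : ℕ, classInner (θ ∘ ff) 1 = c ∧ a ≤ 22 ∧ θ 1 = ((c + 276 * a + 1771 * b : ℕ) : ℂ) := by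
  classical
  have : Finite (IrrCharacter E) := finite_irr
  have := Fintype.ofFinite (IrrCharacter E)
  have hcl := isCharacter_isClassFunction hθ
  -- the multiplicities
  obtain ⟨n, hn⟩ := exists_nat_comb (isCharacter_comp ff hθ)
  have hin : ∀ η : IrrCharacter E, classInner (θ ∘ ff) η = n η := by
    intro η
    rw [hn, classInner_sum_left, Finset.sum_eq_single η]
    · rw [← Nat.cast_smul_eq_nsmul ℂ, classInner_smul_left, classInner_irr_self η.2, mul_one]
    · intro χ _ hχ
      rw [← Nat.cast_smul_eq_nsmul ℂ, classInner_smul_left, classInner_irr_ne χ.2 η.2 (fun h3 => hχ (Subtype.ext h3)),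
        mul_zero]
    · intro h3
      exact absurd (Finset.mem_univ _) h3
  have hTcomp : T ∘ ff = (2 : ℂ)⁻¹ • ((ψ * ψ) ∘ ff) + (k / 2) • (1 : E → ℂ) := by
    funext e
    rw [Function.comp_apply, hTf]
    simp only [Pi.add_apply, Pi.smul_apply, Function.comp_apply, Pi.mul_apply, Pi.one_apply, smul_eq_mul]
    ring
  have hTin : ∀ η : IrrCharacter E, η ≠ oneE → classInner (T ∘ ff) η = (2 : ℂ)⁻¹ * classInner ((ψ * ψ) ∘ ff) η := by
    intro η h1
    rw [hTcomp, classInner_add_left, classInner_smul_left, classInner_smul_left,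
      classInner_irr_ne isIrr_one η.2 (fun h => h1 (Subtype.ext h.symm)), mul_zero, add_zero]
  have hTle : ∀ η : IrrCharacter E, ∃ j : ℕ, classInner (T ∘ ff) η = ((n η + j : ℕ) : ℂ) := by
    intro η
    obtain ⟨j, hj⟩ := classInner_isNat (isCharacter_comp ff hβ) (isIrr_isCharacter η.2)
    refine ⟨j, ?_⟩
    have h1 : T ∘ ff = θ ∘ ff + β ∘ ff := by rw [hT]; rfl
    rw [h1, classInner_add_left, hin, hj]
    push_cast
    rfl
  -- a pair
  obtain ⟨d₀⟩ : Nonempty D := (Nat.card_pos_iff.1 (by rw [card_D]; norm_num)).1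
  have ha : ∀ d : D, n (dc d) = n (dc d₀) := by
    intro d
    have h1 := inner_D hcl d d₀
    have h2 := hin (dc d)
    have h3 := hin (dc d₀)
    have h4 : ((n (dc d) : ℕ) : ℂ) = n (dc d₀) := by
      rw [← h2, ← h3]
      exact h1
    exact_mod_cast h4
  have ha22 : n (dc d₀) ≤ 22 := by
    obtain ⟨j, hj⟩ := hTle (dc d₀)
    obtain ⟨l, hl, hl'⟩ := inner_sq hψ d₀
    rw [hTin _ (dc_ne_one d₀)] at hj
    have h1 : classInner ((ψ * ψ) ∘ ff) (dc d₀ : E → ℂ) = l := hl'
    rw [h1] at hj
    have h2 : (l : ℂ) = ((2 * (n (dc d₀) + j) : ℕ) : ℂ) := by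
      push_cast
      push_cast at hj
      linear_combination 2 * hj
    have h3 : l = 2 * (n (dc d₀) + j) := by exact_mod_cast h2
    omega
  -- the rest
  let g : IrrCharacter E → ℕ := fun η => if sp η then 0 else n η * charDegree (η : E → ℂ)
  have hn_tw : ∀ (m : M24) (η : IrrCharacter E), n (tw m η) = n η := by
    intro m η
    have h1 := inner_comp_wp hcl m (η : E → ℂ)
    have h2 : ((n (tw m η) : ℕ) : ℂ) = n η := by
      rw [← hin, ← hin]
      exact h1
    exact_mod_cast h2
  have key : ∀ {p P : ℕ} [Fact p.Prime], ok P = true → el P ^ p = 1 →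
      chk 4 0 ((List.range 24).map (syn P ((List.range 12).map basisMask))) = true → p ∣ ∑ η, g η := by
    intro p P hp hP hPp hchk
    refine Cfsg.Agent.H843.IMC.dvd_sum_of_free p (tw (el P)) ?_ g ?_ ?_
    · apply Equiv.ext
      intro η
      apply Subtype.ext
      rw [tw_pow, hPp]
      rfl
    · intro η
      show (if sp (tw (el P) η) then 0 else n (tw (el P) η) * charDegree (tw (el P) η : E → ℂ)) = _
      rw [hn_tw, deg_tw]
      simp only [sp_tw_iff hPp hp.out.ne_zero η]
      rfl
    · intro η hg hfix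
      have hg' : (if sp η then 0 else n η * charDegree (η : E → ℂ)) ≠ 0 := hg
      by_cases hs : sp η
      · rw [if_pos hs] at hg'
        exact hg' rfl
      · rw [if_neg hs] at hg'
        have hn0 : n η ≠ 0 := left_ne_zero_of_mul hg'
        have hone : η ≠ oneE := fun h => hs (Or.inl h)
        have h1 : classInner ((ψ * ψ) ∘ ff) η ≠ 0 := by
          intro h0
          obtain ⟨j, hj⟩ := hTle η
          rw [hTin η hone, h0, mul_zero] at hj
          have : n η + j = 0 := by exact_mod_cast hj.symm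
          omega
        obtain ⟨d, d', hdd⟩ := exists_weight hψ η.2 h1
        have hle := ic_le (d, d')
        have h3 : ic (d, d') = 0 ∨ ic (d, d') = 1 ∨ ic (d, d') = 2 := by omega
        rcases h3 with h3 | h3 | h3
        · obtain ⟨y, hy, e1, e2⟩ := zero_of_ic h3
          apply moved hP hchk hy
          have h4 : (η : E → ℂ) = lx (symmDiff {y 0, y 1} {y 2, y 3}) := by
            rw [hdd]
            congr 2
          rw [← h4]
          exact congrArg Subtype.val hfix
        · obtain ⟨y, hy, e1, e2⟩ := one_of_ic h3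
          apply hs
          right
          have h12 : y 1 ≠ y 2 := fun h => absurd (hy h) (by decide)
          refine ⟨⟨{y 1, y 2}, Finset.card_pair h12⟩, Subtype.ext ?_⟩
          rw [hdd]
          show lx _ = lx {y 1, y 2}
          congr 1
          have e1' : (d : Finset GolayPt) = {y 0, y 1} := e1
          have e2' : (d' : Finset GolayPt) = {y 0, y 2} := e2
          rw [e1', e2']
          ext i
          rw [Finset.mem_symmDiff]
          simp only [Finset.mem_insert, Finset.mem_singleton]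
          have h01 : y 0 ≠ y 1 := fun h => absurd (hy h) (by decide)
          have h02 : y 0 ≠ y 2 := fun h => absurd (hy h) (by decide)
          constructor
          · rintro (⟨h | h, h'⟩ | ⟨h | h, h'⟩)
            · exact absurd (Or.inl h) h'
            · exact Or.inl h
            · exact absurd (Or.inl h) h'
            · exact Or.inr h
          · rintro (rfl | rfl)
            · left
              exact ⟨Or.inr rfl, fun h => h.elim (fun h => h01 h.symm) h12⟩
            · right
              exact ⟨Or.inr rfl, fun h => h.elim (fun h => h02 h.symm) fun h => h12 h.symm⟩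
        · apply hs
          left
          apply Subtype.ext
          have h4 : (d : Finset GolayPt) = d' := congrArg Subtype.val (eq_of_ic h3)
          rw [hdd, h4, symmDiff_self]
          exact lx_empty
  have f7 : Fact (Nat.Prime 7) := ⟨by norm_num⟩
  have f11 : Fact (Nat.Prime 11) := ⟨by norm_num⟩
  have f23 : Fact (Nat.Prime 23) := ⟨by norm_num⟩
  obtain ⟨b, hb⟩ := primes_dvd (key (p := 7) ok7 (el_pow_eq_one ok7 pow7) chk7)
    (key (p := 11) ok11 (el_pow_eq_one ok11 pow11) chk11) (key (p := 23) ok23 (el_pow_eq_one ok23 pow23) chk23)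
  refine ⟨n oneE, n (dc d₀), b, hin oneE, ha22, ?_⟩
  have hval : θ 1 = ((∑ η : IrrCharacter E, n η * charDegree (η : E → ℂ) : ℕ) : ℂ) := by
    have h1 := congrFun hn 1
    rw [Function.comp_apply, map_one] at h1
    rw [h1, Finset.sum_apply]
    push_cast
    refine Finset.sum_congr rfl fun η _ => ?_
    rw [Pi.smul_apply, nsmul_eq_mul, Cfsg.Agent.Blocks.Basic.irr_one_eq_charDegree η.2]
  rw [hval]
  congr 1
  rw [← hb]
  have hsplit : ∑ η : IrrCharacter E, n η * charDegree (η : E → ℂ) =
      ∑ η : IrrCharacter E, (if sp η then n η * charDegree (η : E → ℂ) else 0) + ∑ η, g η := by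
    rw [← Finset.sum_add_distrib]
    refine Finset.sum_congr rfl fun η _ => ?_
    show _ = _ + if sp η then 0 else n η * charDegree (η : E → ℂ)
    by_cases hs : sp η
    · rw [if_pos hs, if_pos hs, add_zero]
    · rw [if_neg hs, if_neg hs, zero_add]
  rw [hsplit]
  congr 1
  rw [← Finset.sum_filter]
  have hS : Finset.univ.filter sp = insert oneE (Finset.univ.image dc) := by
    ext η
    rw [Finset.mem_filter, Finset.mem_insert, Finset.mem_image]
    constructor
    · rintro ⟨-, h | ⟨d, h⟩⟩
      · exact Or.inl h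
      · exact Or.inr ⟨d, Finset.mem_univ _, h.symm⟩
    · rintro (h | ⟨d, -, h⟩)
      · exact ⟨Finset.mem_univ _, Or.inl h⟩
      · exact ⟨Finset.mem_univ _, Or.inr ⟨d, h.symm⟩⟩
  rw [hS, Finset.sum_insert, Finset.sum_image fun d _ d' _ h => dc_injective h, deg_oneE, mul_one]
  · congr 1
    rw [Finset.sum_congr rfl (g := fun _ => n (dc d₀)) fun d _ => by rw [ha, deg_dc, mul_one], Finset.sum_const,
      Finset.card_univ, smul_eq_mul, ← Nat.card_eq_fintype_card, card_D]
  · rw [Finset.mem_image]
    rintro ⟨d, -, h⟩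
    exact dc_ne_one d h

end degrees

end weights

end Cfsg.Agent.H472.EP.Co1T
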