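import Cfsg.Agent.H472.EP.Co1A
import Cfsg.Agent.H472.EP.Co1T

/-!
# `Co1` and the prime 23; the row `Co1` of S4929 (helper472)

The character of degree 299 is a constituent of the square of the character of degree 276.
-/

set_option autoImplicit false

namespace Cfsg.Agent.H472.EP.Co1T

open Cfsg Cfsg.Agent.Characters.Core MulAction
open Cfsg.Agent.H419.LeechIrr Cfsg.Agent.SporadicStructure.Co2RankThree
open Cfsg.Agent.SporadicA.Co0Mono Cfsg.Agent.SporadicA.Co1Simple
open Cfsg.Agent.H419.Spor.Co1 (chi chi_one chi_neg psi psi_one isCharacter_psi)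
open Cfsg.Agent.CoOneType.CoOneE (pr pr_surjective)
open Cfsg.Agent.H843.IMC.Co1B Cfsg.Agent.H843.IMC.Co1C
open Cfsg.Agent.H593.IMFrame (Sub perm frame)
open Cfsg.Agent.H713.Spor.RankThree (sum_fixedBy)
open scoped ComplexConjugate

/-- The restriction of the exterior square of the character of degree 24 to a group fixing a vector has norm at least
two. -/
theorem norm_psi {H : Type} [Group H] [Fintype H] (f : H →* Co0) (v : leechLattice) (hv : toC v ≠ 0)
    (hf : ∀ h, f h • v = v) : ∃ n : ℕ, 2 ≤ n ∧ classInner (psi ∘ f) (psi ∘ f) = n := by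
  have h1 : classInner (lchi f) 1 ≠ 0 := by
    rw [classInner_lchi]
    intro h
    have h4 : Module.finrank ℂ (inv f) = 0 := by exact_mod_cast h
    have h5 : toC v ∈ inv f := toC_mem_inv.2 hf
    rw [Submodule.finrank_eq_zero.1 h4] at h5
    exact hv ((Submodule.mem_bot ℂ).1 h5)
  obtain ⟨V, hV, hVe⟩ := exists_sub (isCharacter_lchi f) isIrr_one h1
  have hl1 : lchi f 1 = 24 := by
    rw [lchi, map_one, Cfsg.Agent.SigZeroCo2.Lin.tr8_one]
    norm_num
  have hV1 : V 1 = 23 := by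
    have h2 := congrFun hVe 1
    rw [hl1, Pi.add_apply, Pi.one_apply] at h2
    linear_combination -h2
  set A : H → ℂ := fun g => (V g ^ 2 - V (g * g)) / 2 with hA
  have hAc : IsCharacter H A := Cfsg.Agent.PermChar.SymAlt.isCharacter_altSq hV
  have hA1 : A 1 = 253 := by
    show (V 1 ^ 2 - V (1 * 1)) / 2 = 253
    rw [mul_one, hV1]
    norm_num
  have hps : psi ∘ f = V + A := by
    funext h
    have e1 : chi (f h) = 1 + V h := congrFun hVe h
    have e2 : chi (f h * f h) = 1 + V (h * h) := by rw [← map_mul]; exact congrFun hVe (h * h)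
    show psi (f h) = V h + (V h ^ 2 - V (h * h)) / 2
    rw [psi, e1, e2]
    ring
  obtain ⟨a, ha⟩ := classInner_isNat hV hV
  obtain ⟨b, hb⟩ := classInner_isNat hV hAc
  obtain ⟨c, hc⟩ := classInner_isNat hAc hV
  obtain ⟨d, hd⟩ := classInner_isNat hAc hAc
  have ha0 : a ≠ 0 := by
    rintro rfl
    have h2 := classInner_self_eq_zero (φ := V) (by rw [ha]; simp)
    rw [h2] at hV1
    norm_num at hV1
  have hd0 : d ≠ 0 := by
    rintro rfl
    have h2 := classInner_self_eq_zero (φ := A) (by rw [hd]; simp)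
    rw [h2] at hA1
    norm_num at hA1
  refine ⟨a + b + (c + d), by omega, ?_⟩
  rw [hps, classInner_add_left, classInner_add_right, classInner_add_right, ha, hb, hc, hd]
  push_cast
  ring

theorem psi_real (g : Co0) : conj (psi g) = psi g := by
  rw [psi]
  simp only [map_div₀, map_sub, map_pow, chi_real]
  rw [show (starRingEnd ℂ) 2 = 2 from Complex.conj_ofNat 2]

theorem sum_psi_M [Fintype Co0] : ∃ n : ℕ, 2 * Nat.card Co0 ≤ n ∧
    ∑ g : Co0, psi g * psi g * (Nat.card (fixedBy M g) : ℂ) = n := by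
  classical
  have := Fintype.ofFinite M
  have hne : Nonempty M := ⟨x0⟩
  have key : ∀ x : M, ∃ n : ℕ, 2 * Nat.card (stabilizer Co0 x) ≤ n ∧
      ∑ᶠ g : stabilizer Co0 x, psi (g : Co0) * psi (g : Co0) = n := by
    intro x
    obtain ⟨n, hn, h⟩ := norm_psi ((stabilizer Co0 x).subtype) x.1 (by
      intro h0
      have h1 : x.1 = 0 := by
        apply toC_injective
        rw [h0]
        funext i
        simp [toC]
      have h2 := x.2
      rw [h1] at h2
      have h3 : dt (0 : leechLattice) 0 = 0 := by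
        have := dt_add_left (0 : leechLattice) 0 0
        rw [add_zero] at this
        omega
      omega) (fun h => congrArg Subtype.val h.2)
    refine ⟨Nat.card (stabilizer Co0 x) * n, by rw [mul_comm 2]; exact Nat.mul_le_mul_left _ hn, ?_⟩
    rw [classInner_def, inv_mul_eq_iff_eq_mul₀ card_ne_zero_complex] at h
    rw [finsum_eq_sum_of_fintype]
    push_cast
    rw [← h]
    refine Finset.sum_congr rfl fun g _ => ?_
    show psi g * psi g = psi g * conj (psi g)
    rw [psi_real]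
  choose n hn1 hn2 using key
  refine ⟨∑ x : M, n x, ?_, ?_⟩
  · have h1 : ∑ x : M, Nat.card (stabilizer Co0 x) = Nat.card Co0 := by
      have hA := sum_fixedBy (G := Co0) M (fun _ => (1 : ℂ))
      have h2 := Cfsg.Agent.S0157.avg_fixedBy (G := Co0) M
      rw [Cfsg.Agent.S0157.card_orbits_of_pretransitive, inv_mul_eq_iff_eq_mul₀ card_ne_zero_complex, Nat.cast_one,
        mul_one] at h2
      simp only [one_mul] at hA
      rw [h2] at hA
      have h3 : ∀ x : M, ∑ᶠ g : stabilizer Co0 x, (1 : ℂ) = (Nat.card (stabilizer Co0 x) : ℂ) := by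
        intro x
        rw [finsum_eq_sum_of_fintype]
        simp [Nat.card_eq_fintype_card]
      rw [Finset.sum_congr rfl fun x _ => h3 x] at hA
      exact_mod_cast hA.symm
    rw [← h1, Finset.mul_sum]
    exact Finset.sum_le_sum fun x _ => hn1 x
  · rw [sum_fixedBy (G := Co0) M (fun g => psi g * psi g)]
    push_cast
    exact Finset.sum_congr rfl fun x _ => hn2 x

theorem psi_mul_neg (g : Co0) : psi (signCo0 allOne * g) = psi g := by
  rw [psi, psi, Cfsg.Agent.H843.IMC.Co1D.chi_mul_neg]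
  have h1 : signCo0 allOne * g * (signCo0 allOne * g) = g * g := by
    have hc : signCo0 allOne * g = g * signCo0 allOne :=
      (Subgroup.mem_center_iff.1 ((Cfsg.Agent.CoOneType.CoOneE.mem_center_iff _).2 (Or.inr rfl)) g).symm
    have h2 : signCo0 allOne * signCo0 allOne = 1 := by
      rw [← signCo0_add, ← signCo0_zero]
      congr 1
      apply Subtype.ext
      funext i
      show (1 : ZMod 2) + 1 = 0
      decide
    calc signCo0 allOne * g * (signCo0 allOne * g) = g * (signCo0 allOne * signCo0 allOne) * g := by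
          rw [hc]; nth_rewrite 2 [← hc]; group
      _ = g * g := by rw [h2, mul_one]
  rw [h1]
  ring

theorem sum_psi_X [Fintype Co0] : ∃ n : ℕ, 2 * Nat.card Co0 ≤ n ∧
    ∑ g : Co0, psi g * psi g * (Nat.card (fixedBy X g) : ℂ) = n := by
  obtain ⟨n, hn, h⟩ := sum_psi_M
  refine ⟨n, hn, ?_⟩
  have h1 : ∑ g : Co0, psi g * psi g * (Nat.card (fixedBy M (signCo0 allOne * g)) : ℂ) = n := by
    rw [← h, ← Equiv.sum_comp (Equiv.mulLeft (signCo0 allOne)) (fun g => psi g * psi g * (Nat.card (fixedBy M g) : ℂ))]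
    refine Finset.sum_congr rfl fun g _ => ?_
    rw [Equiv.coe_mulLeft, psi_mul_neg]
  have h2 : ∑ g : Co0, psi g * psi g * ((2 : ℂ) * (Nat.card (fixedBy X g) : ℂ)) = n + n := by
    nth_rewrite 1 [← h]
    rw [← h1, ← Finset.sum_add_distrib]
    refine Finset.sum_congr rfl fun g _ => ?_
    have h3 := Cfsg.Agent.H843.IMC.Co1D.fix_add g
    have h4 : ((Nat.card (fixedBy M g) : ℂ) + (Nat.card (fixedBy M (signCo0 allOne * g)) : ℂ)) =
        2 * (Nat.card (fixedBy X g) : ℂ) := by exact_mod_cast h3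
    rw [← mul_add, h4]
  have h5 : (2 : ℂ) * ∑ g : Co0, psi g * psi g * (Nat.card (fixedBy X g) : ℂ) = n + n := by
    rw [← h2, Finset.mul_sum]
    exact Finset.sum_congr rfl fun g _ => by ring
  linear_combination (1 / 2 : ℂ) * h5

theorem one_nat {G : Type*} [Group G] {V : G → ℂ} (hV : IsCharacter G V) : ∃ n : ℕ, V 1 = n := by
  obtain ⟨n, ρ, rfl⟩ := hV
  exact ⟨_, Representation.char_one ρ⟩

theorem card_eq : Nat.card Spor.Co1 = 4157776806543360000 := Cfsg.Agent.S0399.result.2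

/-- the permutation character of degree 98280 -/
theorem exists_parts [Fintype Spor.Co1] {ξ ψ : IrrCharacter Spor.Co1} (hξd : charDegree (ξ : Spor.Co1 → ℂ) = 299)
    (hξ : ∀ g : Co0, om g = 1 + (ξ : Spor.Co1 → ℂ) (pr g)) (hψ : ∀ g : Co0, (ψ : Spor.Co1 → ℂ) (pr g) = psi g)
    (hψd : charDegree (ψ : Spor.Co1 → ℂ) = 276) :
    ∃ α β : IrrCharacter Spor.Co1, charDegree (α : Spor.Co1 → ℂ) = 17250 ∧ charDegree (β : Spor.Co1 → ℂ) = 80730 ∧
      perm Spor.Co1 X = 1 + ((ξ : Spor.Co1 → ℂ) + ((α : Spor.Co1 → ℂ) + (β : Spor.Co1 → ℂ))) := by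
  classical
  have := Fintype.ofFinite Co0
  have := Fintype.ofFinite X
  obtain ⟨b, hb⟩ := Cfsg.Agent.H843.IMC.Co1C.exists_sub
  obtain ⟨χ, D, hinj, hperm, hsum, hprod, hsq⟩ := frame hb
  have htrans := hb.trans
  have hne : Nonempty X := ⟨mk x0⟩
  have hperm' : perm Spor.Co1 X = ∑ i, (χ i : Spor.Co1 → ℂ) := by
    funext g
    rw [hperm, Finset.sum_apply]
  have hcon : ∀ η : Spor.Co1 → ℂ, IsIrrCharacter Spor.Co1 η → classInner η (perm Spor.Co1 X) ≠ 0 →
      ∃ i, (χ i : Spor.Co1 → ℂ) = η := by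
    intro η hη h0
    by_contra hcon
    push Not at hcon
    apply h0
    have h1 : classInner (perm Spor.Co1 X) η = 0 := by
      rw [hperm', classInner_sum_left, Finset.sum_eq_zero]
      intro i _
      exact classInner_irr_ne (χ i).2 hη (hcon i)
    rw [← classInner_conj_symm, h1, map_zero]
  have hone : classInner (1 : Spor.Co1 → ℂ) (perm Spor.Co1 X) = 1 := by
    have h1 := Cfsg.Agent.H713.Spor.RankThree.inner_pc_one (G := Spor.Co1) X
    change classInner (perm Spor.Co1 X) 1 = 1 at h1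
    rw [← classInner_conj_symm, h1, map_one]
  obtain ⟨i, hi⟩ := hcon 1 isIrr_one (by rw [hone]; norm_num)
  obtain ⟨n, hn, hsumX⟩ := Cfsg.Agent.H843.IMC.Co1D.sum_X
  have hsq2 : classInner (1 + (ξ : Spor.Co1 → ℂ) + (ψ : Spor.Co1 → ℂ)) (perm Spor.Co1 X) = n / Nat.card Co0 := by
    rw [← Cfsg.Agent.H693.Defl.classInner_comp_surj pr pr_surjective, classInner_def, div_eq_inv_mul, ← hsumX]
    congr 1
    refine Finset.sum_congr rfl fun g _ => ?_
    have h1 : perm Spor.Co1 X (pr g) = (Nat.card (fixedBy X g) : ℂ) := rfl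
    rw [h1, Complex.conj_natCast]
    congr 1
    show (1 : ℂ) + (ξ : Spor.Co1 → ℂ) (pr g) + (ψ : Spor.Co1 → ℂ) (pr g) = chi g * chi g
    rw [← hξ, hψ, om, psi]
    ring
  have hj : (∃ j, (χ j : Spor.Co1 → ℂ) = ξ) ∨ ∃ j, (χ j : Spor.Co1 → ℂ) = ψ := by
    by_cases h1 : classInner (ξ : Spor.Co1 → ℂ) (perm Spor.Co1 X) = 0
    · by_cases h2 : classInner (ψ : Spor.Co1 → ℂ) (perm Spor.Co1 X) = 0
      · exfalso
        rw [classInner_add_left, classInner_add_left, hone, h1, h2, add_zero, add_zero] at hsq2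
        have h3 : (Nat.card Co0 : ℂ) ≠ 0 := card_ne_zero_complex
        rw [eq_div_iff h3, one_mul] at hsq2
        have h4 : Nat.card Co0 = n := by exact_mod_cast hsq2
        have h5 : 0 < Nat.card Co0 := Nat.card_pos
        omega
      · exact Or.inr (hcon ψ ψ.2 h2)
    · exact Or.inl (hcon ξ ξ.2 h1)
  have hi1 : charDegree (χ i : Spor.Co1 → ℂ) = 1 := by
    rw [hi]
    unfold charDegree
    simp
  have main : ∀ j, (charDegree (χ j : Spor.Co1 → ℂ) = 299 ∨ charDegree (χ j : Spor.Co1 → ℂ) = 276) →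
      ∃ a c, charDegree (χ a : Spor.Co1 → ℂ) = 17250 ∧ charDegree (χ c : Spor.Co1 → ℂ) = 80730 ∧
        charDegree (χ j : Spor.Co1 → ℂ) = 299 ∧
        perm Spor.Co1 X = 1 + ((χ j : Spor.Co1 → ℂ) + ((χ a : Spor.Co1 → ℂ) + (χ c : Spor.Co1 → ℂ))) := by
    intro j hj
    obtain ⟨⟨a, ha⟩, ⟨c, hc⟩⟩ := Cfsg.Agent.H843.IMC.Co1D.dioph (fun i => charDegree (χ i : Spor.Co1 → ℂ)) D
      (fun i => by rw [← card_eq]; exact Cfsg.Agent.Blocks.Knorr.charDegree_dvd (χ i).2) (i := i) (j := j)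
      (by
        rintro rfl
        rw [hi1] at hj
        omega) hi1 hj (by rw [hsum, card_X]) (by
        rw [hprod, card_X]
        decide +kernel) hsq
    replace ha : charDegree (χ a : Spor.Co1 → ℂ) = 17250 := ha
    replace hc : charDegree (χ c : Spor.Co1 → ℂ) = 80730 := hc
    have n1 : i ≠ j := by rintro rfl; rw [hi1] at hj; omega
    have n2 : i ≠ a := by rintro rfl; rw [hi1] at ha; omega
    have n3 : i ≠ c := by rintro rfl; rw [hi1] at hc; omega
    have n4 : j ≠ a := by rintro rfl; rw [ha] at hj; omega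
    have n5 : j ≠ c := by rintro rfl; rw [hc] at hj; omega
    have n6 : a ≠ c := by rintro rfl; rw [hc] at ha; omega
    have huniv : (Finset.univ : Finset (Fin 4)) = {i, j, a, c} := by
      symm
      apply Finset.eq_univ_of_card
      rw [Finset.card_insert_of_notMem (by simp [n1, n2, n3]), Finset.card_insert_of_notMem (by simp [n4, n5]),
        Finset.card_insert_of_notMem (by simp [n6]), Finset.card_singleton, Fintype.card_fin]
    have hs : charDegree (χ i : Spor.Co1 → ℂ) + (charDegree (χ j : Spor.Co1 → ℂ) +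
        (charDegree (χ a : Spor.Co1 → ℂ) + charDegree (χ c : Spor.Co1 → ℂ))) = 98280 := by
      rw [← card_X, ← hsum, huniv, Finset.sum_insert (by simp [n1, n2, n3]), Finset.sum_insert (by simp [n4, n5]),
        Finset.sum_insert (by simp [n6]), Finset.sum_singleton]
    refine ⟨a, c, ha, hc, by omega, ?_⟩
    rw [hperm', huniv, Finset.sum_insert (by simp [n1, n2, n3]), Finset.sum_insert (by simp [n4, n5]),
        Finset.sum_insert (by simp [n6]), Finset.sum_singleton, hi]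
  rcases hj with ⟨j, hj⟩ | ⟨j, hj⟩
  · obtain ⟨a, c, ha, hc, -, hp⟩ := main j (Or.inl (by rw [hj, hξd]))
    exact ⟨χ a, χ c, ha, hc, by rw [hp, hj]⟩
  · obtain ⟨a, c, ha, hc, hj', -⟩ := main j (Or.inr (by rw [hj, hψd]))
    rw [hj, hψd] at hj'
    omega

theorem mul_self_E (e : E) : e * e = 1 := by
  show Multiplicative.ofAdd (e.toAdd + e.toAdd) = 1
  rw [show e.toAdd + e.toAdd = 0 from ?_]
  · rfl
  apply Subtype.ext
  funext i
  show ((e.toAdd : golayCode) : GolayPt → ZMod 2) i + ((e.toAdd : golayCode) : GolayPt → ZMod 2) i = 0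
  exact CharTwo.add_self_eq_zero _

theorem ff_mul_self (e : E) : ff e * ff e = 1 := by
  rw [← map_mul, mul_self_E, map_one]

section sq

variable [Fintype Spor.Co1] [Fintype E] {ψ ξ : IrrCharacter Spor.Co1}

omit [Fintype E] in
theorem inner_one_psi (hψ : ∀ g : Co0, (ψ : Spor.Co1 → ℂ) (pr g) = psi g) :
    classInner ((ψ : Spor.Co1 → ℂ) * (ψ : Spor.Co1 → ℂ)) 1 = 1 := by
  rw [← classInner_irr_self ψ.2, classInner_def, classInner_def]
  congr 1
  refine Finset.sum_congr rfl fun q _ => ?_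
  obtain ⟨g, rfl⟩ := pr_surjective q
  rw [Pi.mul_apply, Pi.one_apply, map_one, mul_one, hψ, psi_real]

/-- the constituents of the square -/
theorem con_sq (hψ : ∀ g : Co0, (ψ : Spor.Co1 → ℂ) (pr g) = psi g) (hψd : charDegree (ψ : Spor.Co1 → ℂ) = 276)
    {θ : Spor.Co1 → ℂ} (hθ : IsIrrCharacter Spor.Co1 θ)
    (h : classInner ((ψ : Spor.Co1 → ℂ) * (ψ : Spor.Co1 → ℂ)) θ ≠ 0) :
    ∃ c a b : ℕ, classInner (θ ∘ ff) 1 = c ∧ a ≤ 22 ∧ charDegree θ = c + 276 * a + 1771 * b ∧
      charDegree θ ≤ 38226 := by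
  have hψ1 : (ψ : Spor.Co1 → ℂ) 1 = 276 := by
    rw [Cfsg.Agent.Blocks.Basic.irr_one_eq_charDegree ψ.2, hψd]; norm_num
  have hS := Cfsg.Agent.PermChar.SymAlt.isCharacter_symSq (isIrr_isCharacter ψ.2)
  have hL := Cfsg.Agent.PermChar.SymAlt.isCharacter_altSq (isIrr_isCharacter ψ.2)
  have hSL : (ψ : Spor.Co1 → ℂ) * (ψ : Spor.Co1 → ℂ) = (fun g => ((ψ : Spor.Co1 → ℂ) g ^ 2 + (ψ : Spor.Co1 → ℂ) (g * g)) / 2) +
      fun g => ((ψ : Spor.Co1 → ℂ) g ^ 2 - (ψ : Spor.Co1 → ℂ) (g * g)) / 2 := by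
    funext g
    rw [Pi.mul_apply, Pi.add_apply]
    ring
  -- the general step
  have key : ∀ (T : Spor.Co1 → ℂ) (k : ℂ), IsCharacter Spor.Co1 T → classInner T θ ≠ 0 →
      (∀ e, T (ff e) = ((ψ : Spor.Co1 → ℂ) (ff e) * (ψ : Spor.Co1 → ℂ) (ff e) + k) / 2) →
      (∃ m : ℕ, T 1 = m ∧ m ≤ 38226) → ∃ c a b : ℕ, classInner (θ ∘ ff) 1 = c ∧ a ≤ 22 ∧
        charDegree θ = c + 276 * a + 1771 * b ∧ charDegree θ ≤ 38226 := by
    intro T k hT hTθ hTf ⟨m, hm, hm'⟩
    obtain ⟨V, hV, hTV⟩ := exists_sub hT hθ hTθ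
    obtain ⟨c, a, b, h1, h2, h3⟩ := degree hψ (isIrr_isCharacter hθ) hV hTV hTf
    have h4 := Cfsg.Agent.Blocks.Basic.irr_one_eq_charDegree hθ
    obtain ⟨v, hv⟩ := one_nat hV
    refine ⟨c, a, b, h1, h2, ?_, ?_⟩
    · rw [h4] at h3
      exact_mod_cast h3
    · have h5 := congrFun hTV 1
      rw [Pi.add_apply, hm, h4, hv] at h5
      have h6 : m = charDegree θ + v := by exact_mod_cast h5
      omega
  rw [hSL, classInner_add_left] at h
  by_cases h1 : classInner (fun g => ((ψ : Spor.Co1 → ℂ) g ^ 2 + (ψ : Spor.Co1 → ℂ) (g * g)) / 2) θ = 0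
  · rw [h1, zero_add] at h
    refine key _ (-276) hL h (fun e => ?_) ⟨37950, ?_, by norm_num⟩
    · show ((ψ : Spor.Co1 → ℂ) (ff e) ^ 2 - (ψ : Spor.Co1 → ℂ) (ff e * ff e)) / 2 = _
      rw [ff_mul_self, hψ1]
      ring
    · show ((ψ : Spor.Co1 → ℂ) 1 ^ 2 - (ψ : Spor.Co1 → ℂ) (1 * 1)) / 2 = _
      rw [mul_one, hψ1]
      norm_num
  · refine key _ 276 hS h1 (fun e => ?_) ⟨38226, ?_, le_rfl⟩
    · show ((ψ : Spor.Co1 → ℂ) (ff e) ^ 2 + (ψ : Spor.Co1 → ℂ) (ff e * ff e)) / 2 = _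
      rw [ff_mul_self, hψ1]
      ring
    · show ((ψ : Spor.Co1 → ℂ) 1 ^ 2 + (ψ : Spor.Co1 → ℂ) (1 * 1)) / 2 = _
      rw [mul_one, hψ1]
      norm_num

/-- **the character of degree 299 is a constituent of the square of the character of degree 276** -/
theorem xi_mem (hξd : charDegree (ξ : Spor.Co1 → ℂ) = 299) (hξ : ∀ g : Co0, om g = 1 + (ξ : Spor.Co1 → ℂ) (pr g))
    (hψ : ∀ g : Co0, (ψ : Spor.Co1 → ℂ) (pr g) = psi g) (hψd : charDegree (ψ : Spor.Co1 → ℂ) = 276) :
    classInner ((ψ : Spor.Co1 → ℂ) * (ψ : Spor.Co1 → ℂ)) ξ ≠ 0 := by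
  classical
  have := Fintype.ofFinite Co0
  have hψ1 : (ψ : Spor.Co1 → ℂ) 1 = 276 := by
    rw [Cfsg.Agent.Blocks.Basic.irr_one_eq_charDegree ψ.2, hψd]; norm_num
  have hW := isCharacter_mul (isIrr_isCharacter ψ.2) (isIrr_isCharacter ψ.2)
  obtain ⟨α, β, hα, hβ, hp⟩ := exists_parts hξd hξ hψ hψd
  obtain ⟨n, hn, hsum⟩ := sum_psi_X
  have hin : classInner ((ψ : Spor.Co1 → ℂ) * (ψ : Spor.Co1 → ℂ)) (perm Spor.Co1 X) = n / Nat.card Co0 := by
    rw [← Cfsg.Agent.H693.Defl.classInner_comp_surj pr pr_surjective, classInner_def, div_eq_inv_mul, ← hsum]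
    congr 1
    refine Finset.sum_congr rfl fun g _ => ?_
    have h1 : perm Spor.Co1 X (pr g) = (Nat.card (fixedBy X g) : ℂ) := rfl
    rw [h1, Complex.conj_natCast]
    congr 1
    show (ψ : Spor.Co1 → ℂ) (pr g) * (ψ : Spor.Co1 → ℂ) (pr g) = psi g * psi g
    rw [hψ]
  intro h0
  have hβ0 : classInner ((ψ : Spor.Co1 → ℂ) * (ψ : Spor.Co1 → ℂ)) (β : Spor.Co1 → ℂ) = 0 := by
    by_contra h1
    obtain ⟨V, hV, hWV⟩ := exists_sub hW β.2 h1
    obtain ⟨v, hv⟩ := one_nat hV
    have h2 := congrFun hWV 1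
    rw [Pi.mul_apply, Pi.add_apply, hψ1, Cfsg.Agent.Blocks.Basic.irr_one_eq_charDegree β.2, hβ, hv] at h2
    have h3 : 276 * 276 = 80730 + v := by exact_mod_cast h2
    omega
  have hα0 : classInner ((ψ : Spor.Co1 → ℂ) * (ψ : Spor.Co1 → ℂ)) (α : Spor.Co1 → ℂ) ≠ 0 := by
    intro h1
    rw [hp, classInner_add_right, classInner_add_right, classInner_add_right, h0, h1, hβ0, inner_one_psi hψ, add_zero,
      add_zero, add_zero] at hin
    have h3 : (Nat.card Co0 : ℂ) ≠ 0 := card_ne_zero_complex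
    rw [eq_div_iff h3, one_mul] at hin
    have h4 : Nat.card Co0 = n := by exact_mod_cast hin
    have h5 : 0 < Nat.card Co0 := Nat.card_pos
    omega
  have hα1 : (α : Spor.Co1 → ℂ) ≠ 1 := by
    intro h1
    rw [h1] at hα
    unfold charDegree at hα
    simp at hα
  obtain ⟨V1, hV1, hW1⟩ := exists_sub hW isIrr_one (by rw [inner_one_psi hψ]; norm_num)
  have h1 : classInner V1 (α : Spor.Co1 → ℂ) ≠ 0 := by
    rw [hW1, classInner_add_left, classInner_irr_ne isIrr_one α.2 hα1.symm, zero_add] at hα0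
    exact hα0
  obtain ⟨V2, hV2, hW2⟩ := exists_sub hV1 α.2 h1
  obtain ⟨c, a, b, hc, ha, hd, -⟩ := con_sq hψ hψd α.2 hα0
  rw [hα] at hd
  have h2 := av_cases hψ (isIrr_isCharacter α.2) hV2 (by rw [hW1, hW2])
  rw [hc] at h2
  have h3 : c = 0 ∨ c = 23 ∨ c = 252 ∨ c = 275 := by
    rcases h2 with h2 | h2 | h2 | h2
    · left; exact_mod_cast h2
    · right; left; exact_mod_cast h2
    · right; right; left; exact_mod_cast h2
    · right; right; right; exact_mod_cast h2
  omega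

omit [Fintype Spor.Co1] [Fintype E] in
/-- the arithmetic -/
theorem arith : ∀ a < 23, ∀ b < 22, 252 + 276 * a + 1771 * b ≤ 38226 →
    4157776806543360000 % (252 + 276 * a + 1771 * b) = 0 → b % 2 = 0 := by
  decide +kernel

theorem exists_even (hξd : charDegree (ξ : Spor.Co1 → ℂ) = 299) (hξ : ∀ g : Co0, om g = 1 + (ξ : Spor.Co1 → ℂ) (pr g))
    (hψ : ∀ g : Co0, (ψ : Spor.Co1 → ℂ) (pr g) = psi g) (hψd : charDegree (ψ : Spor.Co1 → ℂ) = 276) :
    ∃ η : IrrCharacter Spor.Co1, 2 ∣ charDegree (η : Spor.Co1 → ℂ) ∧ ¬ 23 ∣ charDegree (η : Spor.Co1 → ℂ) := by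
  classical
  have hψ1 : (ψ : Spor.Co1 → ℂ) 1 = 276 := by
    rw [Cfsg.Agent.Blocks.Basic.irr_one_eq_charDegree ψ.2, hψd]; norm_num
  have hW := isCharacter_mul (isIrr_isCharacter ψ.2) (isIrr_isCharacter ψ.2)
  have hx := xi_mem hξd hξ hψ hψd
  have hξ1 : (ξ : Spor.Co1 → ℂ) ≠ 1 := by
    intro h1
    rw [h1] at hξd
    unfold charDegree at hξd
    simp at hξd
  obtain ⟨V1, hV1, hW1⟩ := exists_sub hW isIrr_one (by rw [inner_one_psi hψ]; norm_num)
  have h1 : classInner V1 (ξ : Spor.Co1 → ℂ) ≠ 0 := by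
    rw [hW1, classInner_add_left, classInner_irr_ne isIrr_one ξ.2 hξ1.symm, zero_add] at hx
    exact hx
  obtain ⟨V2, hV2, hW2⟩ := exists_sub hV1 ξ.2 h1
  have hV21 : V2 1 = (75876 : ℕ) := by
    have h2 := congrFun hW1 1
    rw [hW2, Pi.mul_apply, Pi.add_apply, Pi.add_apply, Pi.one_apply, hψ1,
      Cfsg.Agent.Blocks.Basic.irr_one_eq_charDegree ξ.2, hξd] at h2
    push_cast at h2 ⊢
    linear_combination -h2
  have hfin : Finite Spor.Co1 := Finite.of_fintype _
  have : Finite (IrrCharacter Spor.Co1) := finite_irr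
  have := Fintype.ofFinite (IrrCharacter Spor.Co1)
  obtain ⟨m, hm⟩ := exists_nat_comb hV2
  have hex : ∃ η : IrrCharacter Spor.Co1, m η ≠ 0 ∧ ¬ 23 ∣ charDegree (η : Spor.Co1 → ℂ) := by
    by_contra hcon
    push Not at hcon
    have h2 : (75876 : ℕ) = ∑ η : IrrCharacter Spor.Co1, m η * charDegree (η : Spor.Co1 → ℂ) := by
      have h3 : ((75876 : ℕ) : ℂ) = ((∑ η : IrrCharacter Spor.Co1, m η * charDegree (η : Spor.Co1 → ℂ) : ℕ) : ℂ) := by
        rw [← hV21, hm, Finset.sum_apply]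
        push_cast
        refine Finset.sum_congr rfl fun η _ => ?_
        rw [Pi.smul_apply, nsmul_eq_mul, Cfsg.Agent.Blocks.Basic.irr_one_eq_charDegree η.2]
      exact_mod_cast h3
    have h3 : 23 ∣ ∑ η : IrrCharacter Spor.Co1, m η * charDegree (η : Spor.Co1 → ℂ) := by
      refine Finset.dvd_sum fun η _ => ?_
      by_cases h4 : m η = 0
      · rw [h4, zero_mul]
        exact dvd_zero _
      · exact dvd_mul_of_dvd_right (hcon η h4) _
    rw [← h2] at h3
    revert h3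
    norm_num
  obtain ⟨η, hη0, hη⟩ := hex
  have h2 : classInner V2 (η : Spor.Co1 → ℂ) ≠ 0 := by
    rw [hm, classInner_sum_nsmul_irr]
    exact_mod_cast hη0
  obtain ⟨V3, hV3, hW3⟩ := exists_sub hV2 η.2 h2
  have h3 : classInner ((ψ : Spor.Co1 → ℂ) * (ψ : Spor.Co1 → ℂ)) (η : Spor.Co1 → ℂ) ≠ 0 := by
    obtain ⟨x, hx⟩ := classInner_isNat (isIrr_isCharacter isIrr_one) (isIrr_isCharacter η.2)
    obtain ⟨y, hy⟩ := classInner_isNat (isIrr_isCharacter ξ.2) (isIrr_isCharacter η.2)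
    obtain ⟨z, hz⟩ := classInner_isNat hV2 (isIrr_isCharacter η.2)
    rw [hz] at h2
    rw [hW1, hW2, classInner_add_left, classInner_add_left, hx, hy, hz]
    have hz0 : z ≠ 0 := by exact_mod_cast h2
    have : x + (y + z) ≠ 0 := by omega
    exact_mod_cast this
  obtain ⟨c, a, b, hc, ha, hd, hle⟩ := con_sq hψ hψd η.2 h3
  have h4 := av_cases' hψ hξ (isIrr_isCharacter η.2) hV3 (by rw [hW1, hW2, hW3])
  rw [hc] at h4
  have h5 : c = 0 ∨ c = 252 := by
    rcases h4 with h4 | h4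
    · left; exact_mod_cast h4
    · right; exact_mod_cast h4
  refine ⟨η, ?_, hη⟩
  rcases h5 with rfl | rfl
  · exfalso
    apply hη
    rw [hd]
    exact ⟨12 * a + 77 * b, by ring⟩
  · have h6 : charDegree (η : Spor.Co1 → ℂ) ∣ 4157776806543360000 := by
      rw [← card_eq]; exact Cfsg.Agent.Blocks.Knorr.charDegree_dvd η.2
    have h7 := arith a (by omega) b (by omega) (by omega) (by rw [← hd]; exact Nat.mod_eq_zero_of_dvd h6)
    omega

end sq

end Cfsg.Agent.H472.EP.Co1T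

namespace Cfsg.Agent.H472.EP.Co1

open Cfsg Subgroup Cfsg.Agent.Characters.Core Cfsg.Agent.H892.EP Cfsg.Agent.H709.PB
open Cfsg.Agent.H55.CoOneBd (card_co1 exists_lift)
open Cfsg.Agent.Blocks.Basic Cfsg.Agent.H684.BlockTools Cfsg.Agent.H809.Evn

theorem exists_even : ∃ η : IrrCharacter Spor.Co1, 2 ∣ charDegree (η : Spor.Co1 → ℂ) ∧
    ¬ 23 ∣ charDegree (η : Spor.Co1 → ℂ) := by
  have := fin
  have := Fintype.ofFinite Spor.Co1
  have := Fintype.ofFinite Co1T.E
  obtain ⟨ψ, hψ, hψd⟩ := H843.IMC.Co1B.exists_276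
  obtain ⟨ξ, hξd, hξ⟩ := H843.IMC.Co1B.exists_299
  exact Co1T.exists_even hξd hξ hψ hψd

theorem twentythree : EvAt 23 Spor.Co1 := by
  have := fin
  have hp : Fact (Nat.Prime 23) := ⟨by norm_num⟩
  obtain ⟨η, h2, h23⟩ := exists_even
  obtain ⟨P⟩ : Nonempty (Sylow 23 Spor.Co1) := inferInstance
  -- an element of order 23
  have hcard : Nat.card (P : Subgroup Spor.Co1) = 23 := by
    rw [Sylow.card_eq_multiplicity, card_co1, show (4157776806543360000 : ℕ) = 23 ^ 1 * 180772904632320000 by norm_num,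
      Nat.factorization_mul (by norm_num) (by norm_num)]
    simp [Nat.Prime.factorization_self hp.out, Nat.factorization_eq_zero_of_not_dvd
      (show ¬ 23 ∣ 180772904632320000 by norm_num)]
  obtain ⟨x, hx⟩ := exists_prime_orderOf_dvd_card' (G := (P : Subgroup Spor.Co1)) 23 (by rw [hcard])
  have hx' : orderOf (x : Spor.Co1) = 23 := by rw [Subgroup.orderOf_coe, hx]
  -- its centralizer
  have hc : Nat.card ↥(centralizer ({(x : Spor.Co1)} : Set Spor.Co1)) = 23 := by
    obtain ⟨a, ha, ha23, hao⟩ := exists_lift (by norm_num) (by norm_num) hx'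
    have hfin := CoOneType.FrameFix.finite_co0
    have h1 := H604.Cop.Conway.card_cent_co0 hao
    have h2 := Nat.le_of_dvd Nat.card_pos (H898.WkCo1.two_mul_dvd (by decide) ha23)
    rw [ha] at h2
    have h3 : 23 ∣ Nat.card ↥(centralizer ({(x : Spor.Co1)} : Set Spor.Co1)) := by
      have h4 := orderOf_dvd_natCard (⟨(x : Spor.Co1), mem_centralizer_singleton_iff.2 rfl⟩ :
        ↥(centralizer ({(x : Spor.Co1)} : Set Spor.Co1)))
      rwa [Subgroup.orderOf_mk, hx'] at h4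
    have h5 := Nat.le_of_dvd Nat.card_pos h3
    omega
  refine H142.EP.evAt_of_centralizer P (fun y hy => ⟨1, ?_⟩) η h2 h23
  have hy' : y ∈ centralizer ({(x : Spor.Co1)} : Set Spor.Co1) :=
    mem_centralizer_singleton_iff.2 (mem_centralizer_iff.1 hy x x.2).symm
  have h1 := pow_card_eq_one' (x := (⟨y, hy'⟩ : ↥(centralizer ({(x : Spor.Co1)} : Set Spor.Co1))))
  rw [hc] at h1
  rw [pow_one]
  exact congrArg Subtype.val h1

theorem ev : Ev Spor.Co1 := by
  intro p hp hp2 hd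
  rcases cases hp hd with rfl | rfl | rfl | rfl | rfl | rfl | rfl
  · exact absurd rfl hp2
  · exact three
  · exact five
  · exact seven
  · exact eleven
  · exact thirteen
  · exact twentythree

/-- **The row of `Co₁`** -/
theorem _root_.Cfsg.Agent.H472.EP.row_co1 (K : Type) [Group K] [Finite K] [IsSimpleGroup K] (h : Spor.IsoCo1 K) :
    Ev K := by
  obtain ⟨e⟩ := h
  have hfin := fin
  intro p hp hp2 hd M hM
  have : Fact p.Prime := ⟨hp⟩
  obtain ⟨χ, hχ, h2⟩ := ev p hp hp2 (by rw [← Nat.card_congr e.toEquiv]; exact hd) M hM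
  have hs : Function.Surjective e.toMonoidHom := e.surjective
  refine ⟨infl e.toMonoidHom hs χ, infl_mem hM e.toMonoidHom hs hχ, ?_⟩
  rw [J4.charDegree_infl]
  exact h2

end Cfsg.Agent.H472.EP.Co1
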