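import Cfsg.Agent.H653.B0R.J4Seven
import Cfsg.Agent.H723.Spor.JFour
import Cfsg.Agent.H142.EP.T4
import Cfsg.Agent.H809.Evn.Cyc
import Cfsg.Agent.H684.BlockTools
import Cfsg.Agent.S4860
import Cfsg.Agent.CharactersDeep.PElem
import Cfsg.Agent.Blocks.Deflate
import Cfsg.Agent.Blocks.RegularCount
import Cfsg.Agent.H653.B0R.Basic
import Cfsg.Agent.H766.PQ.A01
import Cfsg.Agent.H968.TwoM22Fact
import Cfsg.Agent.H417.DegMTwentyTwo
import Cfsg.Agent.H417.RecogMathieu
import Cfsg.Agent.H30.OneClass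
import Cfsg.Agent.S5563
import Cfsg.Agent.S5569
import Cfsg.Agent.H856.AutM22
import Cfsg.Agent.H859.ClassEleven
import Cfsg.Agent.H337.JankoOfIso

/-!
# S4929: the row `J₄` (helper472)

* `p = 7`: the sieve of the degrees and the relation of the principal 7-block force a character of degree
  `887778` in the principal 7-block;
* `p = 11`: the centralizer of a Sylow 11-subgroup is an 11-group; the degree `887778`;
* `p = 5, 23, 29, 31, 37, 43`: cyclic Sylow subgroups, real elements;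
* `p = 3`: `C(z) = 6.M₂₂`, `z` real, the sum of the squares of the degrees in `B₀(C(z))` is odd: `odd_of_central`
  (the parity of a central quotient: a general statement), `m22_odd` (the principal 3-block of `M₂₂` has the degrees
  `1, 55, 154, 280, 280, 385`).
-/

set_option autoImplicit false
set_option maxRecDepth 100000
set_option linter.unusedSectionVars false

namespace Cfsg.Agent.H472.EP.J4

section small

open Cfsg Subgroup Cfsg.Agent.Characters.Core Cfsg.Agent.H892.EP Cfsg.Agent.H653.Sieve Cfsg.Agent.H653.Spor.J4Dz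
  Cfsg.Agent.H858

/-! ### general facts -/

theorem simple : IsSimpleGroup Spor.J4 := Cfsg.Agent.S1703.result.1

theorem nonab : ¬ IsMulCommutative Spor.J4 := by
  intro h
  have := simple
  let _ : CommGroup Spor.J4 := { (inferInstance : Group Spor.J4) with mul_comm := fun a b => h.is_comm.comm a b }
  have h1 : (Nat.card Spor.J4).Prime := IsSimpleGroup.prime_card
  rw [Cfsg.Agent.S1703.result.2] at h1
  exact absurd h1 (by norm_num)

theorem card_cent_z {G : Type*} [Group G] [Finite G] {z : G} (h : IsOfJankoFourTypeAt z) :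
    Nat.card (centralizer ({z} : Set G)) = 21799895040 := by
  obtain ⟨P, -, -, hQ, -, ⟨N, -, hNC, -, hN, ⟨hn, ⟨e⟩⟩, -⟩, -⟩ := h
  rw [card_eq_card_quotient_mul_card_subgroup (N.subgroupOf (centralizer ({z} : Set G))),
    Nat.card_congr e.toEquiv, Nat.card_congr (subgroupOfEquivOfLe hNC).toEquiv, hN, hQ,
    Cfsg.Agent.H856.AutM22.card_aut]
  norm_num

theorem card_cent {G : Type*} [Group G] [Finite G] [IsSimpleGroup G] (hG : ¬ IsMulCommutative G) {z : G}
    (h : IsOfJankoFourTypeAt z) {t : G} (ht : orderOf t = 2) :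
    Nat.card (centralizer ({t} : Set G)) = 21799895040 ∨ Nat.card (centralizer ({t} : Set G)) = 1816657920 := by
  by_cases hzt : IsConj z t
  · left
    rw [← card_cent_z h]
    exact (Cfsg.Agent.H859.ClassEleven.card_centralizer_conj hzt).symm
  · right
    obtain ⟨V, K, hV, hK, hn, hea, hc, hi, hs, ⟨e⟩⟩ := Cfsg.Agent.S5569.result hG z h t ht hzt
    have hVn : (V.subgroupOf (centralizer ({t} : Set G))).Normal := by
      constructor
      intro x hx y
      rw [mem_subgroupOf] at hx ⊢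
      exact ((mem_normalizer_iff.1 (hn y.2)) x).1 hx
    have hcomp : IsComplement' (V.subgroupOf (centralizer ({t} : Set G)))
        (K.subgroupOf (centralizer ({t} : Set G))) := by
      apply isComplement'_of_disjoint_and_mul_eq_univ
      · rw [disjoint_iff, eq_bot_iff]
        rintro x ⟨h1, h2⟩
        rw [mem_bot]
        apply Subtype.ext
        have h3 : (x : G) ∈ K ⊓ V := ⟨h2, h1⟩
        rw [hi] at h3
        exact mem_bot.1 h3
      · rw [Set.eq_univ_iff_forall]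
        rintro ⟨x, hx⟩
        have h3 : x ∈ K ⊔ V := by rw [hs]; exact hx
        have hKn : K ≤ normalizer (V : Set G) := hK.trans hn
        have h4 : x ∈ ((V ⊔ K : Subgroup G) : Set G) := by rw [sup_comm]; exact h3
        rw [coe_mul_of_right_le_normalizer_left V K hKn] at h4
        obtain ⟨v, hv, k, hk, rfl⟩ := h4
        exact ⟨⟨v, hV hv⟩, hv, ⟨k, hK hk⟩, hk, rfl⟩
    have h5 := hcomp.card_mul_card
    rw [← h5, Nat.card_congr (subgroupOfEquivOfLe hV).toEquiv, Nat.card_congr (subgroupOfEquivOfLe hK).toEquiv, hc,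
      Nat.card_congr e.toEquiv, Cfsg.Agent.H856.AutM22.card_aut]
    norm_num

theorem real_of {G : Type*} [Group G] [Finite G] {y : G} {p : ℕ} (hp : p.Prime) (hy : orderOf y = p)
    (hC : Odd (Nat.card (centralizer ({y} : Set G))))
    (h2 : 2 ∣ Nat.card (normalizer ((zpowers y : Subgroup G) : Set G))) : IsConj y y⁻¹ := by
  have : Fact (Nat.Prime 2) := ⟨Nat.prime_two⟩
  obtain ⟨⟨t, htN⟩, ht⟩ := exists_prime_orderOf_dvd_card' 2 h2
  rw [orderOf_mk] at ht
  have ht2 : t ^ 2 = 1 := by rw [← ht, pow_orderOf_eq_one]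
  obtain ⟨k, hk⟩ := mem_zpowers_iff.1 (((mem_normalizer_iff.1 htN) y).1 (mem_zpowers y))
  have h3 : y ^ (k * k) = y := by
    rw [zpow_mul, hk, conj_zpow, hk]
    have h4 : t * (t * y * t⁻¹) * t⁻¹ = t ^ 2 * y * (t ^ 2)⁻¹ := by rw [pow_two]; group
    rw [h4, ht2]
    group
  have h4 : (p : ℤ) ∣ (k - 1) * (k + 1) := by
    rw [← hy, orderOf_dvd_iff_zpow_eq_one]
    have h5 : (k - 1) * (k + 1) = k * k - 1 := by ring
    rw [h5, zpow_sub, h3, zpow_one, mul_inv_cancel]
  have hpp : Prime (p : ℤ) := Nat.prime_iff_prime_int.1 hp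
  rcases hpp.dvd_or_dvd h4 with h5 | h5
  · exfalso
    rw [← hy, orderOf_dvd_iff_zpow_eq_one, zpow_sub, zpow_one, mul_inv_eq_one] at h5
    rw [h5] at hk
    have h6 : t ∈ centralizer ({y} : Set G) := by
      rw [mem_centralizer_singleton_iff]
      exact mul_inv_eq_iff_eq_mul.1 hk.symm
    have h7 : 2 ∣ Nat.card (centralizer ({y} : Set G)) := by
      rw [← ht, ← orderOf_mk t h6]
      exact orderOf_dvd_natCard _
    exact (Nat.not_even_iff_odd.2 hC) (even_iff_two_dvd.2 h7)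
  · rw [← hy, orderOf_dvd_iff_zpow_eq_one, zpow_add, zpow_one] at h5
    rw [isConj_iff]
    exact ⟨t, by rw [← hk]; exact eq_inv_of_mul_eq_one_left h5⟩




/-! ### `p = 7` -/

/-- the table test -/
def tst (c : ℕ) : Bool :=
  !(Nat.beq (86775571046077562880 % c) 0) || (Nat.beq c 887778 || !(B.flatten.any fun x => Nat.beq x.1 c))

def T1 : List (ℕ × List ℤ) := B.flatten.filter fun x => Nat.beq (x.1 % 7) 1
def T6 : List (ℕ × List ℤ) := B.flatten.filter fun x => Nat.beq (x.1 % 7) 6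

theorem chk : ((T1.all fun x => T1.all fun y => tst (1 + x.1 + y.1)) &&
    ((T1.all fun x => T6.all fun y => tst (1 + x.1 - y.1) && tst (y.1 - (1 + x.1))) &&
      (T6.all fun x => T6.all fun y => tst (x.1 + y.1 - 1)))) = true := by decide +kernel

theorem of_tst {c : ℕ} (h : tst c = true) (hd : c ∣ 86775571046077562880) {l : List ℤ} (hc : (c, l) ∈ B.flatten) :
    c = 887778 := by
  rw [tst, Bool.or_eq_true, Bool.or_eq_true] at h
  rcases h with h | h | h
  · rw [Nat.mod_eq_zero_of_dvd hd] at h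
    exact absurd h (by decide)
  · exact Nat.eq_of_beq_eq_true h
  · exfalso
    rw [Bool.not_eq_true', List.any_eq_false] at h
    exact h _ hc (Nat.beq_refl c)

/-- **a character of degree 887778 in the principal 7-block** -/
theorem exists_seven {M : Ideal AlgInt} (hM : IsPModular 7 M) :
    ∃ χ : IrrCharacter Spor.J4, χ ∈ principalBlock M Spor.J4 ∧ charDegree (χ : Spor.J4 → ℂ) = 887778 := by
  classical
  have hfin : Finite Spor.J4 := H337.finite_of_isoJ4 isoK
  have hsim : IsSimpleGroup Spor.J4 := (KFacts.J4.Base.exists_full isoK).2.1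
  have hp : Fact (Nat.Prime 7) := ⟨by norm_num⟩
  have := finite_irr (G := Spor.J4)
  let _ := Fintype.ofFinite (IrrCharacter Spor.J4)
  have T := tab card_K cent_all (by simp [Cs])
  obtain ⟨Ws, -, hW⟩ := T.sys
  have hcP : Nat.card (Norm57.isPGroup_S7.toSylow Norm57.not_dvd_S7 : Subgroup Spor.J4) = 7 := Norm57.card_S7
  obtain ⟨NE, X, ε, d, S, hB, hdis, hNE, hX, hε, hd, ⟨χ₁, hχ₁, h1, hε1⟩, hval, hX2, -, hrel⟩ :=
    SmallSimple.TheoremB.theoremB 7 (by norm_num) M hM (Norm57.isPGroup_S7.toSylow Norm57.not_dvd_S7) hcP 3 2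
      H653.B0R.J4Seven.relIndex_three (by norm_num)
  obtain ⟨⟨x, hxP⟩, hx⟩ := exists_prime_orderOf_dvd_card'
    (G := (Norm57.isPGroup_S7.toSylow Norm57.not_dvd_S7 : Subgroup Spor.J4)) 7 (by rw [hcP])
  rw [Subgroup.orderOf_mk] at hx
  have hx1 : x ≠ 1 := by
    rintro rfl
    rw [orderOf_one] at hx
    omega
  have hmod : ∀ χ ∈ NE, (7 : ℤ) ∣ ε χ - charDegree (χ : Spor.J4 → ℂ) := by
    intro χ hχ
    have h2 := hval χ hχ x hxP hx1 1 (one_mem _) (by rw [orderOf_one]; norm_num)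
    rw [mul_one] at h2
    exact H653.B0R.dvd_sub_degree (by norm_num) hx χ h2
  have hT : ∀ χ : IrrCharacter Spor.J4, χ ≠ χ₁ → ∃ l, (charDegree (χ : Spor.J4 → ℂ), l) ∈ B.flatten := by
    intro χ hχ
    exact ⟨_, hW χ fun h => hχ (Subtype.ext (by rw [h, h1]))⟩
  have hT1 : ∀ χ : IrrCharacter Spor.J4, χ ≠ χ₁ → χ ∈ NE → ε χ = 1 → ∃ l, (charDegree (χ : Spor.J4 → ℂ), l) ∈ T1 := by
    intro χ h2 h3 h4
    obtain ⟨l, hl⟩ := hT χ h2
    refine ⟨l, List.mem_filter.2 ⟨hl, ?_⟩⟩
    have h5 := hmod χ h3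
    rw [h4] at h5
    have h6 : charDegree (χ : Spor.J4 → ℂ) % 7 = 1 := by omega
    show Nat.beq (charDegree (χ : Spor.J4 → ℂ) % 7) 1 = true
    rw [h6]
    rfl
  have hT6 : ∀ χ : IrrCharacter Spor.J4, χ ≠ χ₁ → χ ∈ NE → ε χ = -1 → ∃ l, (charDegree (χ : Spor.J4 → ℂ), l) ∈ T6 := by
    intro χ h2 h3 h4
    obtain ⟨l, hl⟩ := hT χ h2
    refine ⟨l, List.mem_filter.2 ⟨hl, ?_⟩⟩
    have h5 := hmod χ h3
    rw [h4] at h5
    have h6 : charDegree (χ : Spor.J4 → ℂ) % 7 = 6 := by omega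
    show Nat.beq (charDegree (χ : Spor.J4 → ℂ) % 7) 6 = true
    rw [h6]
    rfl
  obtain ⟨χ, ψ, hne, hNE2⟩ := Finset.card_eq_two.1
    (show (NE.erase χ₁).card = 2 by rw [Finset.card_erase_of_mem hχ₁, hNE])
  have hχ : χ ∈ NE.erase χ₁ := by rw [hNE2]; exact Finset.mem_insert_self _ _
  have hψ : ψ ∈ NE.erase χ₁ := by rw [hNE2]; exact Finset.mem_insert_of_mem (Finset.mem_singleton_self _)
  obtain ⟨hχ1, hχ2⟩ := Finset.mem_erase.1 hχ
  obtain ⟨hψ1, hψ2⟩ := Finset.mem_erase.1 hψ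
  obtain ⟨Θ, hΘ⟩ : X.Nonempty := by
    rw [← Finset.card_pos, hX]
    norm_num
  have hΘ1 : Θ ≠ χ₁ := by
    rintro rfl
    exact Finset.disjoint_left.1 hdis hχ₁ hΘ
  have hr := hrel Θ hΘ 1 (by rw [orderOf_one]; norm_num)
  rw [← Finset.add_sum_erase _ _ hχ₁, hNE2, Finset.sum_pair hne, hε1, h1, Blocks.Knorr.charDegree_eq χ.2,
    Blocks.Knorr.charDegree_eq ψ.2, Blocks.Knorr.charDegree_eq Θ.2] at hr
  have hr' : (1 : ℤ) + (ε χ * (charDegree (χ : Spor.J4 → ℂ) : ℤ) + ε ψ * (charDegree (ψ : Spor.J4 → ℂ) : ℤ)) =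
      d * (charDegree (Θ : Spor.J4 → ℂ) : ℤ) := by
    have h2 : ((1 + (ε χ * (charDegree (χ : Spor.J4 → ℂ) : ℤ) + ε ψ * (charDegree (ψ : Spor.J4 → ℂ) : ℤ)) : ℤ) : ℂ) =
        ((d * (charDegree (Θ : Spor.J4 → ℂ) : ℤ) : ℤ) : ℂ) := by
      push_cast
      have h11 : ((1 : Spor.J4 → ℂ)) 1 = 1 := rfl
      rw [h11] at hr
      linear_combination hr
    exact_mod_cast h2
  refine ⟨Θ, (hB Θ).2 (Or.inr hΘ), ?_⟩
  have hΘd : charDegree (Θ : Spor.J4 → ℂ) ∣ 86775571046077562880 := by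
    rw [← card_K]
    exact Blocks.Knorr.charDegree_dvd Θ.2
  obtain ⟨l, hl⟩ := hT Θ hΘ1
  have hc := chk
  rw [Bool.and_eq_true, Bool.and_eq_true] at hc
  obtain ⟨c1, c2, c3⟩ := hc
  have hpos : ∀ φ : IrrCharacter Spor.J4, 0 < charDegree (φ : Spor.J4 → ℂ) := fun φ => by
    refine Nat.pos_of_dvd_of_pos (Blocks.Knorr.charDegree_dvd φ.2) ?_
    rw [card_K]
    norm_num
  have hp1 := hpos Θ
  have hp2 := hpos χ
  have hp3 := hpos ψ
  refine of_tst ?_ hΘd hl
  rcases hε χ hχ2 with e1 | e1 <;> rcases hε ψ hψ2 with e2 | e2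
  · obtain ⟨l1, m1⟩ := hT1 χ hχ1 hχ2 e1
    obtain ⟨l2, m2⟩ := hT1 ψ hψ1 hψ2 e2
    have h2 := List.all_eq_true.1 (List.all_eq_true.1 c1 _ m1) _ m2
    have h3 : charDegree (Θ : Spor.J4 → ℂ) = 1 + charDegree (χ : Spor.J4 → ℂ) + charDegree (ψ : Spor.J4 → ℂ) := by
      rw [e1, e2] at hr'
      rcases hd with h' | h' <;> rw [h'] at hr' <;> omega
    rw [h3]
    exact h2
  · obtain ⟨l1, m1⟩ := hT1 χ hχ1 hχ2 e1
    obtain ⟨l2, m2⟩ := hT6 ψ hψ1 hψ2 e2
    have h2 := List.all_eq_true.1 (List.all_eq_true.1 c2 _ m1) _ m2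
    rw [Bool.and_eq_true] at h2
    rw [e1, e2] at hr'
    rcases hd with h' | h' <;> rw [h'] at hr'
    · have h3 : charDegree (Θ : Spor.J4 → ℂ) = 1 + charDegree (χ : Spor.J4 → ℂ) - charDegree (ψ : Spor.J4 → ℂ) := by
        omega
      rw [h3]
      exact h2.1
    · have h3 : charDegree (Θ : Spor.J4 → ℂ) = charDegree (ψ : Spor.J4 → ℂ) - (1 + charDegree (χ : Spor.J4 → ℂ)) := by
        omega
      rw [h3]
      exact h2.2
  · obtain ⟨l1, m1⟩ := hT1 ψ hψ1 hψ2 e2
    obtain ⟨l2, m2⟩ := hT6 χ hχ1 hχ2 e1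
    have h2 := List.all_eq_true.1 (List.all_eq_true.1 c2 _ m1) _ m2
    rw [Bool.and_eq_true] at h2
    rw [e1, e2] at hr'
    rcases hd with h' | h' <;> rw [h'] at hr'
    · have h3 : charDegree (Θ : Spor.J4 → ℂ) = 1 + charDegree (ψ : Spor.J4 → ℂ) - charDegree (χ : Spor.J4 → ℂ) := by
        omega
      rw [h3]
      exact h2.1
    · have h3 : charDegree (Θ : Spor.J4 → ℂ) = charDegree (χ : Spor.J4 → ℂ) - (1 + charDegree (ψ : Spor.J4 → ℂ)) := by
        omega
      rw [h3]
      exact h2.2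
  · obtain ⟨l1, m1⟩ := hT6 χ hχ1 hχ2 e1
    obtain ⟨l2, m2⟩ := hT6 ψ hψ1 hψ2 e2
    have h2 := List.all_eq_true.1 (List.all_eq_true.1 c3 _ m1) _ m2
    have h3 : charDegree (Θ : Spor.J4 → ℂ) = charDegree (χ : Spor.J4 → ℂ) + charDegree (ψ : Spor.J4 → ℂ) - 1 := by
      rw [e1, e2] at hr'
      rcases hd with h' | h' <;> rw [h'] at hr' <;> omega
    rw [h3]
    exact h2

theorem seven : EvAt 7 Spor.J4 := by
  intro M hM
  obtain ⟨χ, h1, h2⟩ := exists_seven hM
  exact ⟨χ, h1, by rw [h2]; norm_num⟩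

theorem exists_deg : ∃ χ : IrrCharacter Spor.J4, charDegree (χ : Spor.J4 → ℂ) = 887778 := by
  obtain ⟨M, hM⟩ := Blocks.ExistsModular.exists_isPModular (p := 7) (by norm_num)
  obtain ⟨χ, -, h⟩ := exists_seven hM
  exact ⟨χ, h⟩

/-! ### `p = 11` -/

/-- the centralizer of the Sylow 11-subgroup is an 11-group -/
theorem cent_eleven : ∀ c ∈ centralizer ((H859.NU.U : Subgroup Spor.J4) : Set Spor.J4),
    ∃ k : ℕ, c ^ 11 ^ k = 1 := by
  have hfin : Finite Spor.J4 := H859.SylEleven.finite_J4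
  have hsim : IsSimpleGroup Spor.J4 := simple
  obtain ⟨z, hz⟩ := Cfsg.Agent.H337.isOfJankoFourType_of_isoJ4 (G := Spor.J4) ⟨MulEquiv.refl _⟩
  have hx : Nat.card (centralizer ({H859.SylEleven.x} : Set Spor.J4)) = 242 := by
    refine le_antisymm H859.SylEleven.card_centralizer_x (H859.SylEleven.card_centralizer_inf.trans ?_)
    exact Nat.card_le_card_of_injective _ (Subgroup.inclusion_injective inf_le_left)
  intro c hc
  have h1 : ∀ q : ℕ, q.Prime → q ∣ orderOf c → q = 11 := by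
    intro q hqp hqx
    by_contra hne
    obtain ⟨y, hy, n, hyn⟩ : ∃ y : Spor.J4, orderOf y = q ∧ ∃ n : ℕ, y = c ^ n := by
      refine ⟨c ^ (orderOf c / q), ?_, _, rfl⟩
      rw [orderOf_pow_of_dvd (Nat.div_pos (Nat.le_of_dvd (orderOf_pos c) hqx) hqp.pos).ne' (Nat.div_dvd_of_dvd hqx),
        Nat.div_div_self hqx (orderOf_pos c).ne']
    have hyU : y ∈ centralizer ((H859.NU.U : Subgroup Spor.J4) : Set Spor.J4) := by
      rw [hyn]
      exact pow_mem hc n
    have hyx : y ∈ centralizer ({H859.SylEleven.x} : Set Spor.J4) := by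
      rw [mem_centralizer_singleton_iff]
      exact (mem_centralizer_iff.1 hyU _ H859.SylEleven.x_mem).symm
    have hq : q ∣ 242 := by
      rw [← hx, ← hy, ← orderOf_mk y hyx]
      exact orderOf_dvd_natCard _
    have hq2 : q = 2 := by
      rw [show 242 = 2 * 11 ^ 2 by norm_num] at hq
      rcases hqp.dvd_mul.1 hq with h | h
      · exact (Nat.prime_dvd_prime_iff_eq hqp Nat.prime_two).1 h
      · exact absurd ((Nat.prime_dvd_prime_iff_eq hqp (by norm_num)).1 (hqp.dvd_of_dvd_pow h)) hne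
    subst hq2
    have hU : 11 ^ 3 ∣ Nat.card (centralizer ({y} : Set Spor.J4)) := by
      rw [← H859.NU.card_U]
      refine Subgroup.card_dvd_of_le fun u hu => ?_
      rw [mem_centralizer_singleton_iff]
      exact mem_centralizer_iff.1 hyU u hu
    rcases card_cent nonab hz hy with h | h
    · rw [h] at hU
      revert hU
      norm_num
    · rw [h] at hU
      revert hU
      norm_num
  obtain ⟨k, hk⟩ : ∃ k, orderOf c = 11 ^ k :=
    ⟨_, Nat.eq_prime_pow_of_unique_prime_dvd (orderOf_pos c).ne' (fun {q} hq' hd => h1 q hq' hd)⟩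
  exact ⟨k, by rw [← hk, pow_orderOf_eq_one]⟩

theorem eleven : EvAt 11 Spor.J4 := by
  have : Fact (Nat.Prime 11) := ⟨by norm_num⟩
  have hfin : Finite Spor.J4 := H859.SylEleven.finite_J4
  obtain ⟨χ, h⟩ := exists_deg
  exact H142.EP.evAt_of_centralizer (H859.SylEleven.isPGroup_U.toSylow H859.SylEleven.not_dvd_U) cent_eleven χ
    (by rw [h]; norm_num) (by rw [h]; norm_num)

/-! ### cyclic Sylow subgroups -/

theorem evAt_of_prime {G : Type*} [Group G] [Finite G] {q : ℕ} (hq : q.Prime) (h2 : q ≠ 2)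
    (hsq : ¬ q * q ∣ Nat.card G) {z : G} (hz : orderOf z = q) (hr : IsConj z z⁻¹) : EvAt q G := by
  intro M hM
  have : Fact q.Prime := ⟨hq⟩
  refine H809.Evn.exists_even_of_real_cyclic hM h2 (fun P => ?_) z ⟨1, by rw [hz, pow_one]⟩ (fun h => ?_) hr
  · obtain ⟨k, hk⟩ := P.isPGroup'.exists_card_eq
    have h1 : q ^ k ∣ Nat.card G := by
      rw [← hk]
      exact Subgroup.card_subgroup_dvd_card _
    have h2 : k < 2 := by
      by_contra hk2
      have h3 : q * q ∣ q ^ k := by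
        rw [← pow_two]
        exact pow_dvd_pow q (not_lt.1 hk2)
      exact hsq (h3.trans h1)
    interval_cases k
    · have := (Nat.card_eq_one_iff_unique.1 hk).1
      exact isCyclic_of_subsingleton
    · exact isCyclic_of_prime_card (by rw [hk, pow_one])
  · rw [h, orderOf_one] at hz
    exact hq.one_lt.ne hz

theorem five : EvAt 5 Spor.J4 := by
  have hfin : Finite Spor.J4 := H859.SylEleven.finite_J4
  refine evAt_of_prime (by norm_num) (by norm_num) (by rw [card_K]; norm_num)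
    (orderOf_eq_prime (hp := ⟨by norm_num⟩) Elem.f_pow Loc5.f_ne) (isConj_iff.2 ⟨Elem.r * Elem.r, ?_⟩)
  have h1 : Elem.r * Elem.f * Elem.r⁻¹ = Elem.f ^ 2 := by
    rw [Elem.r_mul_f, pow_two]
    group
  have h2 : Elem.r * Elem.r * Elem.f * (Elem.r * Elem.r)⁻¹ = Elem.f ^ 4 := by
    calc Elem.r * Elem.r * Elem.f * (Elem.r * Elem.r)⁻¹ = Elem.r * (Elem.r * Elem.f * Elem.r⁻¹) * Elem.r⁻¹ := by group
      _ = Elem.r * Elem.f ^ 2 * Elem.r⁻¹ := by rw [h1]
      _ = (Elem.r * Elem.f * Elem.r⁻¹) ^ 2 := conj_pow.symm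
      _ = Elem.f ^ 4 := by rw [h1, ← pow_mul]
  rw [h2]
  refine eq_inv_of_mul_eq_one_left ?_
  rw [← pow_succ, Elem.f_pow]

theorem big {q : ℕ} (hq : q = 23 ∨ q = 29 ∨ q = 31 ∨ q = 37 ∨ q = 43) : EvAt q Spor.J4 := by
  have hfin : Finite Spor.J4 := H859.SylEleven.finite_J4
  have hqp : q.Prime := H723.Spor.JFour.prime_big hq
  obtain ⟨y, hy⟩ := H723.Spor.JFour.exists_prime_order hqp (by rcases hq with rfl | rfl | rfl | rfl | rfl <;> norm_num)
  have hC := H723.Spor.JFour.cent_big hq hy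
  have hP : Nat.card (zpowers y) = q := by rw [Nat.card_zpowers, hy]
  refine evAt_of_prime hqp (by rcases hq with rfl | rfl | rfl | rfl | rfl <;> norm_num)
    (by rw [card_K]; rcases hq with rfl | rfl | rfl | rfl | rfl <;> norm_num) hy
    (real_of hqp hy (by rw [hC]; rcases hq with rfl | rfl | rfl | rfl | rfl <;> decide) ?_)
  rcases hq with rfl | rfl | rfl | rfl | rfl
  · rw [(H859.BigNum.data23 hP).2]; norm_num
  · rw [(H859.BigNum.data29' hP).2]; norm_num
  · rw [(H859.BigNum.data31 hP).2]; norm_num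
  · rw [(H859.BigNum.data37 hP).2]; norm_num
  · rw [(H859.BigNum.data43 hP).2]; norm_num


end small

section block

open Cfsg Subgroup Cfsg.Agent.Blocks.Basic Cfsg.Agent.H684.BlockTools Cfsg.Agent.H809.Evn
open scoped ComplexConjugate
open Cfsg.Agent.Characters.Core (isIrr_isCharacter)



section central

variable {G : Type*} [Group G] [Finite G] {p : ℕ} [Fact p.Prime] {M : Ideal AlgInt}

theorem not_dvd_orderOf_mul {x y : G} (h : Commute x y) (hx : ¬ p ∣ orderOf x) (hy : ¬ p ∣ orderOf y) :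
    ¬ p ∣ orderOf (x * y) := by
  intro h1
  rcases (Fact.out : p.Prime).dvd_mul.1 (h1.trans h.orderOf_mul_dvd_mul_orderOf) with h2 | h2
  · exact hx h2
  · exact hy h2

/-- a regular element lifts to a regular element -/
theorem exists_lift {H : Type*} [Group H] [Finite H] (f : G →* H) (hf : Function.Surjective f) {h : H}
    (hh : ¬ p ∣ orderOf h) : ∃ g : G, f g = h ∧ ¬ p ∣ orderOf g := by
  obtain ⟨g, rfl⟩ := hf h
  obtain ⟨x, y, hxy, hc, -, hy, ⟨k, hk⟩, hyp⟩ := Blocks.RegularCount.exists_pPart (p := p) g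
  refine ⟨y, ?_, hyp⟩
  have hcy : Commute (f g) (f y)⁻¹ := by
    obtain ⟨n, rfl⟩ := hy
    exact ((Commute.refl g).zpow_right n).map f |>.inv_right
  have h1 : f x = f g * (f y)⁻¹ := by rw [← hxy, map_mul, mul_inv_cancel_right]
  have h2 : ¬ p ∣ orderOf (f x) := by
    rw [h1]
    refine not_dvd_orderOf_mul hcy hh ?_
    rw [orderOf_inv]
    exact fun h => hyp (h.trans (orderOf_map_dvd f y))
  have h3 : orderOf (f x) ∣ p ^ k := hk ▸ orderOf_map_dvd f x
  obtain ⟨j, -, hj⟩ := (Nat.dvd_prime_pow Fact.out).1 h3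
  have hj0 : j = 0 := by
    by_contra h4
    exact h2 (hj ▸ dvd_pow_self p h4)
  rw [hj0, pow_zero, orderOf_eq_one_iff] at hj
  rw [← hxy, map_mul, hj, one_mul]

/-- the regular sums of an inflated function -/
theorem regSum_infl [Fintype G] {H : Type*} [Group H] [Fintype H] (f : G →* H) (hf : Function.Surjective f)
    (hker : f.ker ≤ center G) :
    ∃ c : ℕ, ∀ ψ : H → ℂ, S4860.regSum p (ψ ∘ f) = c * S4860.regSum p ψ := by
  classical
  refine ⟨(Finset.univ.filter fun n : G => f n = 1 ∧ ¬ p ∣ orderOf n).card, fun ψ => ?_⟩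
  unfold S4860.regSum
  rw [← Finset.sum_fiberwise (s := Finset.univ) (g := f), Finset.mul_sum]
  refine Finset.sum_congr rfl fun h _ => ?_
  by_cases hh : p ∣ orderOf h
  · rw [if_pos hh, mul_zero]
    refine Finset.sum_eq_zero fun g hg => ?_
    rw [if_pos]
    rw [← (Finset.mem_filter.1 hg).2] at hh
    exact hh.trans (orderOf_map_dvd f g)
  · rw [if_neg hh]
    obtain ⟨g₀, h₀, hg₀⟩ := exists_lift (p := p) f hf hh
    have h1 : ∑ g : G with f g = h, (if p ∣ orderOf g then 0 else (ψ ∘ f) g) =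
        ∑ g : G with f g = h, (if ¬ p ∣ orderOf g then ψ h else 0) := by
      refine Finset.sum_congr rfl fun g hg => ?_
      rw [Function.comp_apply, (Finset.mem_filter.1 hg).2]
      by_cases h3 : p ∣ orderOf g
      · rw [if_pos h3, if_neg (not_not.2 h3)]
      · rw [if_neg h3, if_pos h3]
    have h2 : ∀ n : G, f n = 1 → (p ∣ orderOf (g₀ * n) ↔ p ∣ orderOf n) := by
      intro n hn
      have hc : Commute g₀ n := mem_center_iff.1 (hker (MonoidHom.mem_ker.2 hn)) g₀
      constructor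
      · intro h3
        by_contra h4
        exact not_dvd_orderOf_mul hc hg₀ h4 h3
      · intro h3
        by_contra h4
        have h5 : n = g₀⁻¹ * (g₀ * n) := by group
        rw [h5] at h3
        refine not_dvd_orderOf_mul ?_ ?_ h4 h3
        · exact ((Commute.refl g₀).mul_right hc).inv_left
        · rwa [orderOf_inv]
    rw [h1, ← Finset.sum_filter, Finset.sum_const, nsmul_eq_mul, Finset.filter_filter]
    congr 2
    refine Finset.card_nbij' (fun g => g₀⁻¹ * g) (fun n => g₀ * n) ?_ ?_ ?_ ?_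
    · intro g hg
      rw [Finset.mem_coe, Finset.mem_filter] at hg
      rw [Finset.mem_coe, Finset.mem_filter]
      have h3 : f (g₀⁻¹ * g) = 1 := by rw [map_mul, map_inv, h₀, hg.2.1, inv_mul_cancel]
      refine ⟨Finset.mem_univ _, h3, ?_⟩
      rw [← h2 _ h3, mul_inv_cancel_left]
      exact hg.2.2
    · intro n hn
      rw [Finset.mem_coe, Finset.mem_filter] at hn
      rw [Finset.mem_coe, Finset.mem_filter]
      refine ⟨Finset.mem_univ _, by rw [map_mul, h₀, hn.2.1, mul_one], ?_⟩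
      rw [h2 _ hn.2.1]
      exact hn.2.2
    · intro g _
      exact mul_inv_cancel_left _ _
    · intro n _
      exact inv_mul_cancel_left _ _

/-- **characters of a central quotient in the principal block** -/
theorem mem_of_infl {H : Type*} [Group H] [Finite H] (hM : IsPModular p M) (f : G →* H) (hf : Function.Surjective f)
    (hker : f.ker ≤ center G) {ψ : IrrCharacter H} (h : infl f hf ψ ∈ principalBlock M G) :
    ψ ∈ principalBlock M H := by
  classical
  have := Fintype.ofFinite G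
  have := Fintype.ofFinite H
  by_contra h1
  obtain ⟨c, hc⟩ := regSum_infl (p := p) f hf hker
  refine S4860.regSum_ne_zero p M hM _ h ?_
  show S4860.regSum p ((ψ : H → ℂ) ∘ f) = 0
  rw [hc, S4860.regSum_eq_zero p M hM _ h1, mul_zero]

theorem charDegree_infl {H : Type*} [Group H] (f : G →* H) (hf : Function.Surjective f) (ψ : IrrCharacter H) :
    charDegree (infl f hf ψ : G → ℂ) = charDegree (ψ : H → ℂ) := by
  apply charDegree_of_eq
  show (ψ : H → ℂ) (f 1) = _
  rw [map_one, irr_one_eq_charDegree ψ.2]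

theorem sum_eq_degrees (B : Set (IrrCharacter G)) :
    ∑ᶠ ξ ∈ B, (ξ : G → ℂ) 1 * conj ((ξ : G → ℂ) 1) = ((∑ᶠ ξ ∈ B, charDegree (ξ : G → ℂ) ^ 2 : ℕ) : ℂ) := by
  classical
  have : Finite (IrrCharacter G) := finite_irr
  have := Fintype.ofFinite (IrrCharacter G)
  rw [finsum_mem_eq_finite_toFinset_sum _ (Set.toFinite _), finsum_mem_eq_finite_toFinset_sum _ (Set.toFinite _)]
  push_cast
  refine Finset.sum_congr rfl fun χ _ => ?_
  rw [irr_one_eq_charDegree χ.2, map_natCast, pow_two]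

/-- **the parity of the principal block of a central quotient** -/
theorem odd_of_central (hM : IsPModular p M) (N : Subgroup G) [N.Normal] (hN : N ≤ center G)
    (hreal : ∀ ξ ∈ principalBlock M G, cj ξ = ξ → ∀ n ∈ N, (ξ : G → ℂ) n = (ξ : G → ℂ) 1)
    (h : Odd (∑ᶠ χ ∈ principalBlock M (G ⧸ N), charDegree (χ : G ⧸ N → ℂ) ^ 2)) :
    Odd (∑ᶠ ξ ∈ principalBlock M G, charDegree (ξ : G → ℂ) ^ 2) := by
  classical
  have : Finite (IrrCharacter G) := finite_irr
  have := Fintype.ofFinite (IrrCharacter G)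
  have : Finite (IrrCharacter (G ⧸ N)) := finite_irr
  have := Fintype.ofFinite (IrrCharacter (G ⧸ N))
  have := Fintype.ofFinite N
  have hf := QuotientGroup.mk'_surjective N
  have hker : (QuotientGroup.mk' N).ker ≤ center G := by rwa [QuotientGroup.ker_mk']
  rw [finsum_mem_eq_finite_toFinset_sum _ (Set.toFinite _)] at h ⊢
  set tQ := (Set.toFinite (principalBlock M (G ⧸ N))).toFinset with htQ
  set tG := (Set.toFinite (principalBlock M G)).toFinset with htG
  have hmQ : ∀ χ, χ ∈ tQ ↔ χ ∈ principalBlock M (G ⧸ N) := fun χ => Set.Finite.mem_toFinset _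
  have hmG : ∀ χ, χ ∈ tG ↔ χ ∈ principalBlock M G := fun χ => Set.Finite.mem_toFinset _
  set I := tQ.image (infl (QuotientGroup.mk' N) hf) with hI
  have hIG : I ⊆ tG := by
    intro ξ hξ
    obtain ⟨χ, hχ, rfl⟩ := Finset.mem_image.1 hξ
    exact (hmG _).2 (infl_mem hM _ hf ((hmQ _).1 hχ))
  rw [← Finset.sum_sdiff hIG]
  have h1 : ∑ ξ ∈ I, charDegree (ξ : G → ℂ) ^ 2 = ∑ χ ∈ tQ, charDegree (χ : G ⧸ N → ℂ) ^ 2 := by
    rw [hI, Finset.sum_image fun a _ b _ hab => infl_injective _ hf hab]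
    refine Finset.sum_congr rfl fun χ _ => ?_
    rw [charDegree_infl]
  rw [h1]
  refine Even.add_odd ?_ h
  rw [even_iff_two_dvd, ← ZMod.natCast_eq_zero_iff]
  push_cast
  refine Finset.sum_involution (fun χ _ => cj χ) ?_ ?_ ?_ ?_
  · intro χ _
    rw [charDegree_cj]
    exact CharTwo.add_self_eq_zero _
  · intro ξ hξ _ h5
    rw [Finset.mem_sdiff, hmG] at hξ
    have h6 : ∑ n : N, (ξ : G → ℂ) n ≠ 0 := by
      rw [Finset.sum_congr rfl fun (n : N) _ => hreal ξ hξ.1 h5 n n.2, Finset.sum_const, Finset.card_univ, nsmul_eq_mul]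
      refine mul_ne_zero ?_ (irr_one_ne_zero ξ.2)
      exact_mod_cast Fintype.card_ne_zero
    obtain ⟨χ, hχ⟩ := Blocks.Deflate.exists_deflation N ξ ξ.2 h6
    have h7 : infl (QuotientGroup.mk' N) hf χ = ξ := Subtype.ext hχ.symm
    refine hξ.2 (Finset.mem_image.2 ⟨χ, (hmQ _).2 (mem_of_infl hM _ hf hker ?_), h7⟩)
    rw [h7]
    exact hξ.1
  · intro ξ hξ
    rw [Finset.mem_sdiff, hmG] at hξ ⊢
    refine ⟨cj_mem hξ.1, fun h6 => hξ.2 ?_⟩
    obtain ⟨χ, hχ, h7⟩ := Finset.mem_image.1 h6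
    refine Finset.mem_image.2 ⟨cj χ, (hmQ _).2 (cj_mem ((hmQ _).1 hχ)), ?_⟩
    rw [← cj_cj ξ, ← h7]
    rfl
  · intro χ _
    exact cj_cj χ

/-- a real character in the principal block is trivial on a central subgroup of exponent `2 p`-/
theorem apply_eq_of_real (hM : IsPModular p M) (hp : p ≠ 2) {ξ : IrrCharacter G} (hξ : ξ ∈ principalBlock M G)
    (hr : cj ξ = ξ) {n : G} (hn : n ∈ center G) (hnp : ¬ p ∣ orderOf (n ^ p)) : (ξ : G → ℂ) n = (ξ : G → ℂ) 1 := by
  have := Fintype.ofFinite G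
  have h1 : n ^ p ∈ center G := pow_mem hn p
  have hN : (zpowers (n ^ p)).Normal := by
    constructor
    intro x hx g
    have h2 : x ∈ center G := (zpowers_le.2 h1) hx
    rw [mem_center_iff.1 h2 g, mul_inv_cancel_right]
    exact hx
  have h2 : (ξ : G → ℂ) (n ^ p) = (ξ : G → ℂ) 1 :=
    Blocks.PrincipalKernel.principalBlock_apply_eq hM (N := zpowers (n ^ p)) (by rwa [Nat.card_zpowers]) hξ
      (mem_zpowers _)
  obtain ⟨ω, -, hω⟩ := CharactersDeep.PElem.exists_central_scalar ξ.2 hn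
  have h3 : ∀ k : ℕ, (ξ : G → ℂ) (n ^ k) = ω ^ k * (ξ : G → ℂ) 1 := by
    intro k
    induction k with
    | zero => rw [pow_zero, pow_zero, one_mul]
    | succ k ih => rw [pow_succ', hω, ih, pow_succ']; ring
  have h0 := irr_one_ne_zero ξ.2
  have h4 : ω ^ p = 1 := by
    rw [h3 p] at h2
    exact mul_right_cancel₀ h0 (by rw [h2, one_mul])
  have h5 : (ξ : G → ℂ) n = ω * (ξ : G → ℂ) 1 := by
    have := h3 1
    rwa [pow_one, pow_one] at this
  have h6 : conj ω = ω := by
    have h7 : conj ((ξ : G → ℂ) n) = (ξ : G → ℂ) n := congrFun (congrArg Subtype.val hr) n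
    rw [h5, map_mul, irr_one_eq_charDegree ξ.2, map_natCast] at h7
    rw [irr_one_eq_charDegree ξ.2] at h0
    exact mul_right_cancel₀ h0 h7
  obtain ⟨r, hr'⟩ := Complex.conj_eq_iff_real.1 h6
  have h8 : r ^ p = 1 := by
    rw [hr'] at h4
    exact_mod_cast h4
  have hodd : Odd p := (Fact.out : p.Prime).odd_of_ne_two hp
  have h9 : r = 1 := by
    refine (Odd.strictMono_pow hodd).injective ?_
    show r ^ p = 1 ^ p
    rw [h8, one_pow]
  rw [h5, hr', h9, Complex.ofReal_one, one_mul]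

end central


end block

section mtwo

open Cfsg Subgroup Cfsg.Agent.Blocks.Basic Cfsg.Agent.H684.BlockTools Cfsg.Agent.H809.Evn Cfsg.Agent.H968.TwoM22
open scoped ComplexConjugate
open Cfsg.Agent.Characters.Core (isIrr_isCharacter)



/-- a group of order 36 without normal Sylow 3-subgroup -/
theorem normalizer_nine {K : Type*} [Group K] [Finite K] (hK : Nat.card K = 36) (T : Sylow 3 K)
    (hn : ¬ (T : Subgroup K).Normal) : Nat.card (T : Subgroup K) = 9 ∧ normalizer ((T : Subgroup K) : Set K) = T := by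
  have h3 : Fact (Nat.Prime 3) := ⟨Nat.prime_three⟩
  have hT : Nat.card (T : Subgroup K) = 9 := by
    rw [T.card_eq_multiplicity, hK]
    have : (36 : ℕ).factorization 3 = 2 := by
      rw [show 36 = 3 ^ 2 * 4 by norm_num, Nat.factorization_mul (by norm_num) (by norm_num), Finsupp.add_apply,
        Nat.Prime.factorization_pow Nat.prime_three, Finsupp.single_eq_same,
        Nat.factorization_eq_zero_of_not_dvd (by norm_num)]
    rw [this]
    norm_num
  refine ⟨hT, ?_⟩
  have h1 := Sylow.card_eq_index_normalizer T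
  have h2 : Nat.card (Sylow 3 K) ≡ 1 [MOD 3] := card_sylow_modEq_one 3 K
  have h4 := (normalizer ((T : Subgroup K) : Set K)).card_mul_index
  have h5 : Nat.card (T : Subgroup K) ∣ Nat.card (normalizer ((T : Subgroup K) : Set K)) :=
    Subgroup.card_dvd_of_le le_normalizer
  rw [hT] at h5
  rw [hK] at h4
  obtain ⟨m, hm⟩ := h5
  rw [hm] at h4
  rw [h1] at h2
  have hi1 : (normalizer ((T : Subgroup K) : Set K)).index ≠ 1 := fun h => hn (normalizer_eq_top_iff.1 (index_eq_one.1 h))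
  have hm1 : m = 1 := by
    have hmi : m * (normalizer ((T : Subgroup K) : Set K)).index = 4 := by
      have : 9 * (m * (normalizer ((T : Subgroup K) : Set K)).index) = 9 * 4 := by
        rw [← mul_assoc]
        exact h4
      omega
    have hd : m ∣ 4 := ⟨_, hmi.symm⟩
    have hle := Nat.le_of_dvd (by norm_num) hd
    have h6 : (normalizer ((T : Subgroup K) : Set K)).index % 3 = 1 := h2
    interval_cases m
    · omega
    · rfl
    · omega
    · omega
    · omega
  rw [hm1, mul_one] at hm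
  exact (eq_of_le_of_card_ge le_normalizer (by rw [hm, hT])).symm

theorem nilp_nine {K : Type*} [Group K] [Finite K] (hK : Nat.card K = 36) (T : Sylow 3 K)
    (hn : ¬ (T : Subgroup K).Normal) : ∃ k : ℕ, (pPrimeCore 3 K).index = 3 ^ k := by
  have h3 : Fact (Nat.Prime 3) := ⟨Nat.prime_three⟩
  obtain ⟨hT, hN⟩ := normalizer_nine hK T hn
  apply Cfsg.Agent.H30.OneClass.index_pPrimeCore
  have hNC : normalizer ((T : Subgroup K) : Set K) ≤ centralizer ((T : Subgroup K) : Set K) := by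
    rw [hN]
    intro x hx
    rw [mem_centralizer_iff]
    intro y hy
    have hc := IsPGroup.isMulCommutative_of_card_eq_prime_sq (p := 3) (G := (T : Subgroup K)) (by rw [hT]; norm_num)
    exact congrArg Subtype.val (hc.is_comm.comm ⟨y, hy⟩ ⟨x, hx⟩)
  exact ⟨T, (MonoidHom.transferSylow T hNC).ker, inferInstance, MonoidHom.ker_transferSylow_isComplement' T hNC⟩

/-- the numerical argument -/
theorem num {b1 b7 b8 : Prop} [Decidable b1] [Decidable b7] [Decidable b8] {v1 v4 v6 v7 v8 v9 v10 v11 : ℤ}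
    (h1 : (3 : ℤ) ∣ v1) (h7 : (3 : ℤ) ∣ v7) (h8 : (3 : ℤ) ∣ v8) (h4 : v4 ≠ 0) (h6 : v6 ≠ 0) (h9 : v9 ≠ 0) (h10 : v10 ≠ 0)
    (h11 : v11 ≠ 0)
    (hA : 1 + v1 ^ 2 + v4 ^ 2 + v6 ^ 2 + v7 ^ 2 + v8 ^ 2 + v9 ^ 2 + v10 ^ 2 + v11 ^ 2 = 36)
    (hB : 1 + (if b1 then v1 ^ 2 else 0) + v4 ^ 2 + v6 ^ 2 + (if b7 then v7 ^ 2 else 0) + (if b8 then v8 ^ 2 else 0) +
      v9 ^ 2 + v10 ^ 2 + v11 ^ 2 = 9) : ¬ b1 ∧ ¬ b7 ∧ ¬ b8 := by
  have p4 : 0 < v4 ^ 2 := by positivity
  have p6 : 0 < v6 ^ 2 := by positivity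
  have p9 : 0 < v9 ^ 2 := by positivity
  have p10 : 0 < v10 ^ 2 := by positivity
  have p11 : 0 < v11 ^ 2 := by positivity
  obtain ⟨w1, rfl⟩ := h1
  obtain ⟨w7, rfl⟩ := h7
  obtain ⟨w8, rfl⟩ := h8
  have q1 : 0 ≤ w1 ^ 2 := by positivity
  have q7 : 0 ≤ w7 ^ 2 := by positivity
  have q8 : 0 ≤ w8 ^ 2 := by positivity
  simp only [mul_pow] at hA hB
  have sq : ∀ w : ℤ, w ^ 2 ≠ 2 ∧ w ^ 2 ≠ 3 := by
    intro w
    constructor <;> intro h
    · have : w ≤ 1 := by nlinarith
      have : -1 ≤ w := by nlinarith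
      interval_cases w <;> omega
    · have : w ≤ 1 := by nlinarith
      have : -1 ≤ w := by nlinarith
      interval_cases w <;> omega
  have s1 := sq w1
  have s7 := sq w7
  have s8 := sq w8
  by_cases c1 : b1 <;> by_cases c7 : b7 <;> by_cases c8 : b8 <;> simp only [c1, c7, c8, if_true, if_false] at hB ⊢ <;>
    first
      | omega
      | (refine ⟨?_, ?_, ?_⟩ <;> intro h <;> exact h)

section

variable {Q : Type*} [Group Q] [Finite Q] {M : Ideal AlgInt}

theorem factor_443520 : (443520 : ℕ).factorization 3 = 2 := by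
  rw [show 443520 = 3 ^ 2 * 49280 by norm_num, Nat.factorization_mul (by norm_num) (by norm_num), Finsupp.add_apply,
    Nat.Prime.factorization_pow Nat.prime_three, Finsupp.single_eq_same,
    Nat.factorization_eq_zero_of_not_dvd (by norm_num)]

/-- The local data: `s` of order 3, `C(s)` is 3-nilpotent, the centralizer of a Sylow 3-subgroup is a 3-group. -/
theorem local_data (T : Three Q) : ∃ s : Q, orderOf s = 3 ∧ Nat.card (centralizer ({s} : Set Q)) = 36 ∧
    (∀ x : Q, orderOf x = 3 → IsConj s x) ∧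
    (∃ k : ℕ, (pPrimeCore 3 ↥(centralizer ({s} : Set Q))).index = 3 ^ k) ∧
    ∃ P : Sylow 3 Q, ∀ x ∈ centralizer ((P : Subgroup Q) : Set Q), ∃ k : ℕ, x ^ 3 ^ k = 1 := by
  have h3 : Fact (Nat.Prime 3) := ⟨Nat.prime_three⟩
  obtain ⟨hcard, ⟨s, t, g, hs, ht, hst, hne, hC, hconj, hgs, hgt⟩, -, -⟩ := T
  have hs3 : s ^ 3 = 1 := by rw [← hs, pow_orderOf_eq_one]
  have ht3 : t ^ 3 = 1 := by rw [← ht, pow_orderOf_eq_one]
  obtain ⟨E, hE, hmem⟩ := exists_E hs3 ht3 hst hne
  have hEK : E ≤ centralizer ({s} : Set Q) := by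
    intro x hx
    obtain ⟨i, -, j, -, rfl⟩ := (hmem x).1 hx
    rw [mem_centralizer_singleton_iff]
    have h1 : Commute (s ^ i * t ^ j) s :=
      ((Commute.refl s).pow_left i).mul_left ((show Commute t s from hst.symm).pow_left j)
    exact h1
  set K := centralizer ({s} : Set Q) with hK
  have hcE : Nat.card (E.subgroupOf K) = 9 := by
    rw [Nat.card_congr (subgroupOfEquivOfLe hEK).toEquiv, hE]
  have hfac : (Nat.card K).factorization 3 = 2 := by
    rw [hC, show 36 = 3 ^ 2 * 4 by norm_num, Nat.factorization_mul (by norm_num) (by norm_num), Finsupp.add_apply,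
      Nat.Prime.factorization_pow Nat.prime_three, Finsupp.single_eq_same,
      Nat.factorization_eq_zero_of_not_dvd (by norm_num)]
  let TK : Sylow 3 K := Sylow.ofCard (E.subgroupOf K) (by rw [hcE, hfac]; norm_num)
  have hTK : (TK : Subgroup K) = E.subgroupOf K := rfl
  have hgK : g ∈ K := mem_centralizer_singleton_iff.2 hgs
  have htE : t ∈ E := (hmem t).2 ⟨0, by norm_num, 1, by norm_num, by rw [pow_zero, pow_one, one_mul]⟩
  have hnn : ¬ (TK : Subgroup K).Normal := by
    intro hn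
    have h1 := hn.conj_mem ⟨t, hEK htE⟩ (by rw [hTK, mem_subgroupOf]; exact htE) ⟨g, hgK⟩
    rw [hTK, mem_subgroupOf] at h1
    have h2 : g * t * g⁻¹ ∈ E := h1
    obtain ⟨i, hi, j, hj, h4⟩ := (hmem _).1 h2
    exact hgt i hi j hj (by rw [← h4]; group)
  refine ⟨s, hs, hC, hconj, nilp_nine hC TK hnn, ?_⟩
  refine ⟨Sylow.ofCard E (by rw [hE, hcard, factor_443520]; norm_num), ?_⟩
  intro x hx
  have hx' : ∀ y ∈ E, y * x = x * y := mem_centralizer_iff.1 hx
  have hsE : s ∈ E := (hmem s).2 ⟨1, by norm_num, 0, by norm_num, by rw [pow_zero, pow_one, mul_one]⟩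
  have hxK : x ∈ K := mem_centralizer_singleton_iff.2 (hx' s hsE).symm
  have hN := (normalizer_nine hC TK hnn).2
  have h5 : (⟨x, hxK⟩ : K) ∈ normalizer ((TK : Subgroup K) : Set K) := by
    rw [mem_normalizer_iff]
    intro y
    rw [hTK, mem_subgroupOf, mem_subgroupOf]
    show (y : Q) ∈ E ↔ x * y * x⁻¹ ∈ E
    constructor
    · intro hy
      rw [← hx' _ hy, mul_inv_cancel_right]
      exact hy
    · intro hy
      have h6 := hx' _ hy
      have h7 : (y : Q) = x * y * x⁻¹ := by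
        have h8 : x * (y : Q) * x⁻¹ * x = x * (x * (y : Q) * x⁻¹) := h6
        have h9 : x * (y : Q) = x * (x * (y : Q) * x⁻¹) := by rw [← h8]; group
        exact mul_left_cancel h9
      rw [h7]
      exact hy
  rw [hN, hTK, mem_subgroupOf] at h5
  have h6 : x ^ Nat.card E = 1 := by
    have := pow_card_eq_one' (x := (⟨x, h5⟩ : E))
    exact congrArg Subtype.val this
  exact ⟨2, by rw [hE] at h6; exact h6⟩

theorem sum_block {A : Type*} [AddCommMonoid A] (f : Fin 12 ≃ IrrCharacter Q) (B : Set (IrrCharacter Q))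
    [DecidablePred fun i => f i ∈ B] (F : IrrCharacter Q → A) :
    ∑ᶠ χ ∈ B, F χ = ∑ i : Fin 12, if f i ∈ B then F (f i) else 0 := by
  classical
  have : Fintype (IrrCharacter Q) := Fintype.ofEquiv _ f
  rw [finsum_mem_def, finsum_eq_sum_of_fintype, ← Equiv.sum_comp f]
  refine Finset.sum_congr rfl fun i _ => ?_
  rw [Set.indicator_apply]

theorem sum12 {A : Type*} [AddCommMonoid A] (g : Fin 12 → A) :
    ∑ i, g i = g 0 + g 1 + g 2 + g 3 + g 4 + g 5 + g 6 + g 7 + g 8 + g 9 + g 10 + g 11 := by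
  rw [Fin.sum_univ_castSucc, Fin.sum_univ_castSucc, Fin.sum_univ_castSucc, Fin.sum_univ_castSucc, Fin.sum_univ_eight]
  rfl

/-- **the principal 3-block of `M₂₂`** -/
theorem m22_odd (h : Spor.IsoM22 Q) (hM : IsPModular 3 M) :
    Odd (∑ᶠ χ ∈ principalBlock M Q, charDegree (χ : Q → ℂ) ^ 2) := by
  classical
  have h3 : Fact (Nat.Prime 3) := ⟨Nat.prime_three⟩
  have hcard : Nat.card Q = 443520 := (H417.RecogMathieu.isM22 h).2
  obtain ⟨f, hf⟩ := H417.DegMTwentyTwo.exists_enum (H417.RecogMathieu.isM22 h)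
  obtain ⟨e⟩ := h
  obtain ⟨s, hs, hC, hconj, hnil, P, hP⟩ := local_data (three.congr e.symm)
  have := Fintype.ofFinite Q
  let _ : Fintype (IrrCharacter Q) := Fintype.ofEquiv _ f
  have hfac : (Nat.card Q).factorization 3 = 2 := by rw [hcard, factor_443520]
  have hd : ∀ i : Fin 12, charDegree (f i : Q → ℂ) = M22.DegreesEnd.LB.getD i 0 := hf
  -- integral values
  have hint : ∀ χ : IrrCharacter Q, ∃ k : ℤ, (χ : Q → ℂ) s = k := by
    intro χ
    have h1 : ∃ q : ℚ, (χ : Q → ℂ) s = q := by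
      rw [Characters.GaloisBasic.exists_rat_iff (isIrr_isCharacter χ.2)]
      intro m hm
      have h2 : orderOf (s ^ m) = 3 := by
        rw [Nat.Coprime.orderOf_pow, hs]
        exact (Nat.Coprime.coprime_dvd_right (orderOf_dvd_natCard s) hm).symm
      obtain ⟨c, hc⟩ := isConj_iff.1 (hconj _ h2)
      rw [← hc, Characters.Core.isIrr_isClassFunction χ.2]
    obtain ⟨q, hq⟩ := h1
    obtain ⟨k, hk⟩ := Characters.GaloisBasic.exists_int_of_rat (isIrr_isCharacter χ.2) s ⟨q, hq⟩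
    exact ⟨k, hk⟩
  choose v hv using hint
  have hcong : ∀ χ : IrrCharacter Q, (3 : ℤ) ∣ v χ - charDegree (χ : Q → ℂ) := fun χ =>
    H653.B0R.dvd_sub_degree Nat.prime_three hs χ (hv χ)
  have h3s : 3 ∣ orderOf s := by rw [hs]
  have hvan : ∀ χ : IrrCharacter Q, 9 ∣ charDegree (χ : Q → ℂ) → v χ = 0 := by
    intro χ h9
    have h1 := H692.RealOver.defect_zero_vanish χ.2 3 Nat.prime_three (by rw [hfac]; exact h9) h3s
    rw [hv χ] at h1
    exact_mod_cast h1
  have hnot : ∀ χ : IrrCharacter Q, 9 ∣ charDegree (χ : Q → ℂ) → χ ∉ principalBlock M Q := by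
    intro χ h9 hχ
    rw [← H317.PQ.B0_eq Nat.prime_three hM] at hχ
    have h1 := H766.PQ.not_defect_zero Nat.prime_three (by rw [hcard]; norm_num) hχ
    rw [hfac] at h1
    have h0 : charDegree (χ : Q → ℂ) ≠ 0 := by
      intro h0
      exact irr_one_ne_zero χ.2 (by rw [irr_one_eq_charDegree χ.2, h0, Nat.cast_zero])
    have h2 := (Nat.prime_three.pow_dvd_iff_le_factorization (k := 2) h0).1 (by norm_num; exact h9)
    omega
  have hmem : ∀ χ : IrrCharacter Q, ¬ 3 ∣ charDegree (χ : Q → ℂ) → χ ∈ principalBlock M Q :=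
    H142.EP.mem_of_centralizer hM P hP
  -- the sums
  have hA : ∑ i : Fin 12, v (f i) ^ 2 = 36 := by
    have h1 := S0145.sum_irr_mul_conj s s
    rw [if_pos (IsConj.refl s), hC, ← Equiv.sum_comp f] at h1
    have h2 : ((∑ i : Fin 12, v (f i) ^ 2 : ℤ) : ℂ) = ((36 : ℤ) : ℂ) := by
      push_cast at h1 ⊢
      rw [← h1]
      refine Finset.sum_congr rfl fun i _ => ?_
      rw [hv, map_intCast, pow_two]
    exact_mod_cast h2
  have hB : ∑ i : Fin 12, (if f i ∈ principalBlock M Q then v (f i) ^ 2 else 0) = 9 := by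
    have h1p : ¬ 3 ∣ orderOf (1 : ↥(centralizer ({s} : Set Q))) := by rw [orderOf_one]; norm_num
    have h1 := Blocks.PrincipalSection.sum_principalBlock_section hM s ⟨1, by rw [hs, pow_one]⟩ rfl 1 1 h1p h1p
    have hfC : (Nat.card ↥(centralizer ({s} : Set Q))).factorization 3 = 2 := by
      rw [hC, show 36 = 3 ^ 2 * 4 by norm_num, Nat.factorization_mul (by norm_num) (by norm_num), Finsupp.add_apply,
        Nat.Prime.factorization_pow Nat.prime_three, Finsupp.single_eq_same,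
        Nat.factorization_eq_zero_of_not_dvd (by norm_num)]
    rw [Blocks.PrincipalSection.sum_principalBlock_of_pComplement hM hnil h1p h1p, hfC, sum_block f] at h1
    have h2 : ((∑ i : Fin 12, (if f i ∈ principalBlock M Q then v (f i) ^ 2 else 0) : ℤ) : ℂ) = ((9 : ℤ) : ℂ) := by
      push_cast at h1 ⊢
      rw [show (9 : ℂ) = 3 ^ 2 by norm_num]
      norm_num at h1
      norm_num
      rw [← h1]
      refine Finset.sum_congr rfl fun i _ => ?_
      split_ifs with hi
      · rw [hv, map_intCast, pow_two]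
      · rfl
    exact_mod_cast h2
  -- the trivial character
  have h0 : (f 0 : Q → ℂ) = fun _ => 1 := by
    obtain ⟨i, hi⟩ := f.surjective (one' Q)
    have h1 : M22.DegreesEnd.LB.getD i 0 = 1 := by
      rw [← hd i, hi]
      exact charDegree_of_eq (by simp [one'])
    have h2 : i = 0 := by
      revert i
      have : ∀ i : Fin 12, M22.DegreesEnd.LB.getD i 0 = 1 → i = 0 := by decide
      exact fun i _ h => this i h
    rw [h2] at hi
    rw [hi]
    rfl
  have hv0 : v (f 0) = 1 := by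
    have h1 := hv (f 0)
    rw [h0] at h1
    have h2 : (1 : ℂ) = (v (f 0) : ℂ) := h1
    exact_mod_cast h2.symm
  have c9 : ∀ i : Fin 12, 9 ∣ M22.DegreesEnd.LB.getD i 0 → v (f i) = 0 := fun i hi => hvan _ (by rw [hd]; exact hi)
  have n9 : ∀ i : Fin 12, 9 ∣ M22.DegreesEnd.LB.getD i 0 → f i ∉ principalBlock M Q := fun i hi =>
    hnot _ (by rw [hd]; exact hi)
  have m3 : ∀ i : Fin 12, ¬ 3 ∣ M22.DegreesEnd.LB.getD i 0 → f i ∈ principalBlock M Q := fun i hi =>
    hmem _ (by rw [hd]; exact hi)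
  have cg : ∀ i : Fin 12, (3 : ℤ) ∣ v (f i) - (M22.DegreesEnd.LB.getD i 0 : ℕ) := fun i => by
    rw [← hd]
    exact hcong _
  have hne : ∀ i : Fin 12, ¬ 3 ∣ M22.DegreesEnd.LB.getD i 0 → v (f i) ≠ 0 := by
    intro i hi hz
    have h1 := cg i
    rw [hz] at h1
    omega
  have hdv : ∀ i : Fin 12, 3 ∣ M22.DegreesEnd.LB.getD i 0 → (3 : ℤ) ∣ v (f i) := by
    intro i hi
    have h1 := cg i
    omega
  rw [sum12] at hA hB
  rw [if_pos (m3 0 (by decide)), if_neg (n9 2 (by decide)), if_neg (n9 3 (by decide)), if_pos (m3 4 (by decide)),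
    if_neg (n9 5 (by decide)), if_pos (m3 6 (by decide)), if_pos (m3 9 (by decide)), if_pos (m3 10 (by decide)),
    if_pos (m3 11 (by decide)), hv0] at hB
  rw [c9 2 (by decide), c9 3 (by decide), c9 5 (by decide), hv0] at hA
  obtain ⟨r1, r7, r8⟩ := num (b1 := f 1 ∈ principalBlock M Q) (b7 := f 7 ∈ principalBlock M Q)
    (b8 := f 8 ∈ principalBlock M Q) (hdv 1 (by decide)) (hdv 7 (by decide)) (hdv 8 (by decide)) (hne 4 (by decide))
    (hne 6 (by decide)) (hne 9 (by decide)) (hne 10 (by decide)) (hne 11 (by decide)) (by linarith) (by linarith)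
  rw [sum_block f, sum12, if_pos (m3 0 (by decide)), if_neg r1, if_neg (n9 2 (by decide)), if_neg (n9 3 (by decide)),
    if_pos (m3 4 (by decide)), if_neg (n9 5 (by decide)), if_pos (m3 6 (by decide)), if_neg r7, if_neg r8,
    if_pos (m3 9 (by decide)), if_pos (m3 10 (by decide)), if_pos (m3 11 (by decide))]
  simp only [hd]
  decide

end


end mtwo

section final

open Cfsg Subgroup Cfsg.Agent.Blocks.Basic Cfsg.Agent.H684.BlockTools Cfsg.Agent.H809.Evn Cfsg.Agent.H892.EP
open scoped ComplexConjugate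



theorem three : EvAt 3 Spor.J4 := by
  intro M hM
  have h3 : Fact (Nat.Prime 3) := ⟨Nat.prime_three⟩
  have hfin : Finite Spor.J4 := H859.SylEleven.finite_J4
  have hsim : IsSimpleGroup Spor.J4 := simple
  obtain ⟨z, P, hJ⟩ := Cfsg.Agent.H337.isOfJankoFourType_of_isoJ4 (G := Spor.J4) ⟨MulEquiv.refl _⟩
  obtain ⟨-, hcyc, h6, hM22, hnorm⟩ := S5563.result nonab z P hJ
  obtain ⟨-, -, -, -, -, hP3, -, hne, -⟩ := hJ
  obtain ⟨⟨x, hxP⟩, hx⟩ := exists_prime_orderOf_dvd_card' (G := P) 3 (by rw [hP3])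
  rw [Subgroup.orderOf_mk] at hx
  have hPx : P = zpowers x := by
    symm
    apply eq_of_le_of_card_ge
    · rw [zpowers_le]; exact hxP
    · rw [hP3, Nat.card_zpowers, hx]
  have hCP : centralizer (P : Set Spor.J4) = centralizer ({x} : Set Spor.J4) := by
    rw [hPx, zpowers_eq_closure, centralizer_closure]
  have hH : centralizer ({z} : Set Spor.J4) ⊓ centralizer (P : Set Spor.J4) = centralizer ({x} : Set Spor.J4) := by
    rw [← hCP]
    exact inf_eq_right.2 ((centralizer_le_normalizer _).trans hnorm)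
  have hx1 : x ≠ 1 := by
    rintro rfl
    rw [orderOf_one] at hx
    omega
  have hx3 : x ^ 3 = 1 := by rw [← hx, pow_orderOf_eq_one]
  -- the element is real
  have hr : IsConj x x⁻¹ := by
    have h1 : ∃ n ∈ centralizer ({z} : Set Spor.J4) ⊓ normalizer (P : Set Spor.J4), n ∉ centralizer (P : Set Spor.J4) := by
      by_contra hcon
      push Not at hcon
      refine hne (le_antisymm (fun n hn => ⟨hn.1, hcon n hn⟩) (inf_le_inf_left _ (centralizer_le_normalizer _)))
    obtain ⟨n, hn, hn'⟩ := h1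
    have h2 : n * x * n⁻¹ ∈ P := (mem_normalizer_iff.1 hn.2 x).1 hxP
    rw [hPx] at h2
    obtain ⟨k, hk⟩ := mem_zpowers_iff.1 h2
    rw [hCP, mem_centralizer_singleton_iff] at hn'
    refine isConj_iff.2 ⟨n, ?_⟩
    have h4 : x ^ (k % 3) = n * x * n⁻¹ := by
      have h5 := zpow_mod_orderOf x k
      rw [hx] at h5
      rw [← hk]
      exact h5
    have hlo : 0 ≤ k % 3 := Int.emod_nonneg _ (by norm_num)
    have hhi : k % 3 < 3 := Int.emod_lt_of_pos _ (by norm_num)
    interval_cases hkk : k % 3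
    · exfalso
      rw [zpow_zero] at h4
      apply hx1
      have h5 : x = n⁻¹ * (n * x * n⁻¹) * n := by group
      rw [h5, ← h4]
      group
    · exfalso
      rw [zpow_one] at h4
      exact hn' (by
        calc n * x = n * x * n⁻¹ * n := by group
          _ = x * n := by rw [← h4])
    · rw [← h4]
      refine eq_inv_of_mul_eq_one_left ?_
      rw [show (2 : ℤ) = ((2 : ℕ) : ℤ) from rfl, zpow_natCast, ← pow_succ, hx3]
  by_contra hcon
  push Not at hcon
  set H := centralizer ({z} : Set Spor.J4) ⊓ centralizer (P : Set Spor.J4) with hHdef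
  have h1p : ¬ 3 ∣ orderOf (1 : H) := by rw [orderOf_one]; norm_num
  obtain ⟨a, ha, h1⟩ := two_dvd_local hM hcon x ⟨1, by rw [hx, pow_one]⟩ hx1 hH 1 h1p (by
    rw [OneMemClass.coe_one, mul_one]; exact hr)
  rw [sum_eq_degrees] at h1
  refine not_two_mul ?_ ha h1
  refine odd_of_central hM (center H) le_rfl (fun ξ hξ hcj n hn => ?_) (m22_odd hM22 hM)
  refine apply_eq_of_real hM (by norm_num) hξ hcj hn ?_
  have h7 : n ^ 6 = 1 := by
    have h8 := pow_card_eq_one' (x := (⟨n, hn⟩ : center H))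
    rw [h6] at h8
    exact congrArg Subtype.val h8
  have h8 : orderOf (n ^ 3) ∣ 2 := orderOf_dvd_of_pow_eq_one (by rw [← pow_mul]; exact h7)
  intro h9
  have := Nat.le_of_dvd (by norm_num) (h9.trans h8)
  omega

theorem ev : Ev Spor.J4 := by
  intro p hp hp2 hd
  have h1 : p = 2 ∨ p = 3 ∨ p = 5 ∨ p = 7 ∨ p = 11 ∨ p = 23 ∨ p = 29 ∨ p = 31 ∨ p = 37 ∨ p = 43 := by
    rw [H653.Spor.J4Dz.card_K, show 86775571046077562880 = 2 ^ 21 * 3 ^ 3 * 5 * 7 * 11 ^ 3 * 23 * 29 * 31 * 37 * 43 by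
      norm_num] at hd
    simp only [hp.dvd_mul] at hd
    have key : ∀ {q k : ℕ}, q.Prime → p ∣ q ^ k → p = q := fun hq h =>
      (Nat.prime_dvd_prime_iff_eq hp hq).1 (hp.dvd_of_dvd_pow h)
    have key' : ∀ {q : ℕ}, q.Prime → p ∣ q → p = q := fun hq h => (Nat.prime_dvd_prime_iff_eq hp hq).1 h
    rcases hd with ((((((((h | h) | h) | h) | h) | h) | h) | h) | h) | h
    · exact Or.inl (key Nat.prime_two h)
    · exact Or.inr (Or.inl (key Nat.prime_three h))
    · have := key' (q := 5) (by norm_num) h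
      omega
    · have := key' (q := 7) (by norm_num) h
      omega
    · have := key (q := 11) (by norm_num) h
      omega
    · have := key' (q := 23) (by norm_num) h
      omega
    · have := key' (q := 29) (by norm_num) h
      omega
    · have := key' (q := 31) (by norm_num) h
      omega
    · have := key' (q := 37) (by norm_num) h
      omega
    · have := key' (q := 43) (by norm_num) h
      omega
  rcases h1 with rfl | rfl | rfl | rfl | rfl | h1
  · exact absurd rfl hp2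
  · exact three
  · exact five
  · exact seven
  · exact eleven
  · exact big h1

/-- **The row of `J₄`** -/
theorem _root_.Cfsg.Agent.H472.EP.row_j4 (K : Type) [Group K] [Finite K] [IsSimpleGroup K] (h : Spor.IsoJ4 K) :
    Ev K := by
  obtain ⟨e⟩ := h
  have hfin : Finite Spor.J4 := H859.SylEleven.finite_J4
  intro p hp hp2 hd M hM
  have : Fact p.Prime := ⟨hp⟩
  obtain ⟨χ, hχ, h2⟩ := ev p hp hp2 (by rw [← Nat.card_congr e.toEquiv]; exact hd) M hM
  have hs : Function.Surjective e.toMonoidHom := e.surjective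
  refine ⟨infl e.toMonoidHom hs χ, infl_mem hM e.toMonoidHom hs hχ, ?_⟩
  rw [charDegree_infl]
  exact h2


end final

end Cfsg.Agent.H472.EP.J4
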