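import Cfsg.Agent.H709.PB.Guide
import Cfsg.Agent.H142.EP.T4
import Cfsg.Agent.H898.WkCo1
import Cfsg.Agent.H572.CoFiveThree
import Cfsg.Agent.H843.IMC.Co1B
import Cfsg.Agent.H995.PBCoSyl
import Cfsg.Agent.H721.CoM24
import Cfsg.Agent.H721.CoMat
import Cfsg.Agent.H472.EP.J4

/-!
# S4929: the row `Co₁`, the primes 3, 5, 7, 11, 13 (helper472)

* `p = 3`: `3⁸` does not divide the order of the centralizer of an element of prime order `≠ 3`, hence the characters
  outside the principal 3-block have degree divisible by 9; the degree `276`;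
* `p = 5, 7`: the centralizers of the Sylow subgroups; the degree `276`;
* `p = 11, 13`: cyclic Sylow subgroups, real elements.
-/

set_option autoImplicit false
set_option maxRecDepth 100000

namespace Cfsg.Agent.H472.EP.Co1

open Cfsg Subgroup Cfsg.Agent.Characters.Core Cfsg.Agent.H892.EP Cfsg.Agent.H709.PB
open Cfsg.Agent.LThreeMB (fr XX Zx)
open Cfsg.Agent.H55.CoOneBd (card_co1 card_cent_XX card_cent_conj exists_lift card_cent_dvd)

theorem fin : Finite Spor.Co1 := H898.WkCo1.fin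

theorem cases {q : ℕ} (hq : q.Prime) (hd : q ∣ Nat.card Spor.Co1) :
    q = 2 ∨ q = 3 ∨ q = 5 ∨ q = 7 ∨ q = 11 ∨ q = 13 ∨ q = 23 := by
  rw [card_co1, show (4157776806543360000 : ℕ) = 2 ^ 21 * (3 ^ 9 * (5 ^ 4 * (7 ^ 2 * (11 * (13 * 23))))) by norm_num] at hd
  have key : ∀ {r n : ℕ}, r.Prime → q ∣ r ^ n → q = r := fun hr h =>
    (Nat.prime_dvd_prime_iff_eq hq hr).1 (hq.dvd_of_dvd_pow h)
  have key' : ∀ {r : ℕ}, r.Prime → q ∣ r → q = r := fun hr h => (Nat.prime_dvd_prime_iff_eq hq hr).1 h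
  rcases hq.dvd_mul.1 hd with h | h
  · exact Or.inl (key (by norm_num) h)
  rcases hq.dvd_mul.1 h with h | h
  · exact Or.inr (Or.inl (key (by norm_num) h))
  rcases hq.dvd_mul.1 h with h | h
  · exact Or.inr (Or.inr (Or.inl (key (by norm_num) h)))
  rcases hq.dvd_mul.1 h with h | h
  · exact Or.inr (Or.inr (Or.inr (Or.inl (key (by norm_num) h))))
  rcases hq.dvd_mul.1 h with h | h
  · exact Or.inr (Or.inr (Or.inr (Or.inr (Or.inl (key' (by norm_num) h)))))
  rcases hq.dvd_mul.1 h with h | h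
  · exact Or.inr (Or.inr (Or.inr (Or.inr (Or.inr (Or.inl (key' (by norm_num) h))))))
  · exact Or.inr (Or.inr (Or.inr (Or.inr (Or.inr (Or.inr (key' (by norm_num) h))))))

theorem not_dvd_five {s : Spor.Co1} (hs : orderOf s = 5) : ¬ 3 ^ 8 ∣ Nat.card ↥(centralizer ({s} : Set Spor.Co1)) := by
  have := fin
  intro hd
  rcases CoFive.Ranks.ranks s hs with h | h | h
  · obtain ⟨e⟩ := MFive.JTwo.isoJ2 hs h
    rw [card_cent_XX, hs, Nat.card_congr e.toEquiv, Cfsg.Agent.S1619.result.2.2.2] at hd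
    revert hd
    norm_num
  · exact H572.CoFiveThree.cent_five_four hs h ((pow_dvd_pow 3 (by norm_num)).trans hd)
  · have h1 : IsConj MFiveHN.Cent.xx s :=
      CoFive.Ranks.isConj_of_fr MFiveHN.Cent.order_x hs (MFiveHN.Inst.fr_xx.trans h.symm)
    rw [← card_cent_conj h1, H265.NH.CoOne.card_five] at hd
    revert hd
    norm_num

/-- the 3-parts of the orders of the centralizers -/
theorem not_dvd_three {y : Spor.Co1} (hp : (orderOf y).Prime) (h3 : orderOf y ≠ 3) :
    ¬ 3 ^ 8 ∣ Nat.card ↥(centralizer ({y} : Set Spor.Co1)) := by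
  have := fin
  rcases cases hp (orderOf_dvd_natCard y) with h | h | h | h | h | h | h
  · exact fun hd => absurd (hd.trans (H898.WkCo1.inv_dvd h)) (by norm_num)
  · exact absurd h h3
  · exact not_dvd_five h
  · intro hd
    rcases H898.WkCo1.seven_cases h with ⟨-, h1⟩ | ⟨-, h1⟩
    · exact absurd (hd.trans h1) (by norm_num)
    · rw [h1] at hd
      revert hd
      norm_num
  · intro hd
    obtain ⟨g, hg⟩ := H800.ME.CoFacts.conj_s h
    rw [← card_cent_conj (isConj_iff.2 ⟨g, hg⟩), H800.ME.CoFacts.card_cent] at hd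
    revert hd
    norm_num
  · exact fun hd => absurd ((hd.trans (dvd_mul_left _ 2)).trans (H109.Nr.Co.card_cent_co1 h)) (by norm_num)
  · intro hd
    obtain ⟨a, rfl, ha, hao⟩ := exists_lift (by norm_num) (by norm_num) h
    have hfin := CoOneType.FrameFix.finite_co0
    have h1 := H604.Cop.Conway.card_cent_co0 hao
    have h2 := Nat.le_of_dvd Nat.card_pos (card_cent_dvd (by decide) ha)
    have h3 := Nat.le_of_dvd Nat.card_pos hd
    omega

theorem nb_three : NB 3 2 Spor.Co1 := by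
  have := fin
  have : Fact (Nat.Prime 3) := ⟨by norm_num⟩
  exact NB.of_orders (a := 9) (by rw [card_co1]; norm_num) fun y hy h3 => not_dvd_three hy h3

theorem exists_276 : ∃ χ : IrrCharacter Spor.Co1, charDegree (χ : Spor.Co1 → ℂ) = 276 := by
  obtain ⟨χ, -, h⟩ := H843.IMC.Co1B.exists_276
  exact ⟨χ, h⟩

theorem three : EvAt 3 Spor.Co1 := by
  intro M hM
  obtain ⟨χ, h⟩ := exists_276
  refine ⟨χ, ?_, by rw [h]; norm_num⟩
  by_contra h1
  have h2 := nb_three M hM χ h1
  rw [h] at h2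
  revert h2
  norm_num

theorem five : EvAt 5 Spor.Co1 := by
  have := fin
  have : Fact (Nat.Prime 5) := ⟨by norm_num⟩
  obtain ⟨Q, hQ⟩ := H995.PBCoSyl.five
  obtain ⟨χ, h⟩ := exists_276
  refine H142.EP.evAt_of_centralizer Q (fun x hx => ?_) χ (by rw [h]; norm_num) (by rw [h]; norm_num)
  obtain ⟨k, hk⟩ := hQ ⟨x, hx⟩
  exact ⟨k, congrArg Subtype.val hk⟩

theorem seven : EvAt 7 Spor.Co1 := by
  have := fin
  have : Fact (Nat.Prime 7) := ⟨by norm_num⟩
  obtain ⟨Q, hQ⟩ := H995.PBCoSyl.seven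
  obtain ⟨χ, h⟩ := exists_276
  refine H142.EP.evAt_of_centralizer Q (fun x hx => ?_) χ (by rw [h]; norm_num) (by rw [h]; norm_num)
  obtain ⟨k, hk⟩ := hQ ⟨x, hx⟩
  exact ⟨k, congrArg Subtype.val hk⟩

theorem eleven : EvAt 11 Spor.Co1 := by
  have := fin
  obtain ⟨z, hz, hr⟩ := H721.CoM24.co1_eleven.isConj
  exact J4.evAt_of_prime (by norm_num) (by norm_num) (by rw [card_co1]; norm_num) hz hr

theorem thirteen : EvAt 13 Spor.Co1 := by
  have := fin
  obtain ⟨z, hz, hr⟩ := H721.CoMat.co1_thirteen.isConj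
  exact J4.evAt_of_prime (by norm_num) (by norm_num) (by rw [card_co1]; norm_num) hz hr

end Cfsg.Agent.H472.EP.Co1
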